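import Mathlib

/-!
# Arithmetic in `ZMod m` relative to a prime divisor
-/

set_option autoImplicit false
set_option maxHeartbeats 1000000

namespace Cfsg.Agent.DihedralB

variable {m : ℕ} [NeZero m]

lemma exists_unit_mul {x y a b : ZMod m} (h1 : a * x = y) (h2 : b * y = x) :
    ∃ k : (ZMod m)ˣ, (k : ZMod m) * x = y := by
  set N := addOrderOf x
  have hN : N ∣ m := by
    apply addOrderOf_dvd_of_nsmul_eq_zero
    rw [nsmul_eq_mul, ZMod.natCast_self, zero_mul]
  have key : ∀ z : ZMod m, z * x = 0 ↔ ZMod.castHom hN (ZMod N) z = 0 := by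
    intro z
    rw [← ZMod.natCast_zmod_val z, ← nsmul_eq_mul, ← addOrderOf_dvd_iff_nsmul_eq_zero, map_natCast,
      ZMod.natCast_eq_zero_iff]
  have hab : ZMod.castHom hN (ZMod N) b * ZMod.castHom hN (ZMod N) a = 1 := by
    have : (b * a - 1) * x = 0 := by rw [sub_mul, one_mul, mul_assoc, h1, h2, sub_self]
    rw [key, map_sub, map_mul, map_one, sub_eq_zero] at this
    exact this
  obtain ⟨k, hk⟩ := ZMod.unitsMap_surjective hN (Units.mkOfMulEqOne _ _ hab)⁻¹
  refine ⟨k, ?_⟩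
  have hk' : ZMod.castHom hN (ZMod N) (k : ZMod m) = ZMod.castHom hN (ZMod N) a := by
    have := congrArg (fun u : (ZMod N)ˣ => (u : ZMod N)) hk
    simpa [ZMod.unitsMap, Units.mkOfMulEqOne] using this
  have : ((k : ZMod m) - a) * x = 0 := by rw [key, map_sub, hk', sub_self]
  rw [sub_mul, sub_eq_zero] at this
  rw [this, h1]

/-- A prime divisor of `m` together with the idempotent of its complementary part. -/
structure QData (m : ℕ) [NeZero m] where
  q : ℕ
  prime : q.Prime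
  dvd : q ∣ m
  e : ℕ
  E0 : ZMod m
  idem : E0 * E0 = E0
  kill : (q : ZMod m) ^ e * (1 - E0) = 0
  c_kill : E0 * ((m / q : ℕ) : ZMod m) = 0

/-- Every prime divisor gives such data. -/
lemma exists_qData {q : ℕ} (hq : q.Prime) (hd : q ∣ m) : ∃ Q : QData m, Q.q = q := by
  obtain ⟨e, m', hm', hme⟩ := Nat.exists_eq_pow_mul_and_not_dvd (NeZero.ne m) q hq.ne_one
  have hco : Nat.Coprime (q ^ e) m' := ((hq.coprime_iff_not_dvd).mpr hm').pow_left e
  obtain ⟨n, hn1, hn2⟩ := Nat.chineseRemainder hco 0 1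
  have he : q ∣ q ^ e := by
    refine dvd_pow_self q fun h0 => hm' ?_
    rwa [hme, h0, pow_zero, one_mul] at hd
  have hqe : q ^ e ∣ n := Nat.modEq_zero_iff_dvd.mp hn1
  refine ⟨⟨q, hq, hd, e, (n : ZMod m), ?_, ?_, ?_⟩, rfl⟩
  · rw [← Nat.cast_mul, ZMod.natCast_eq_natCast_iff, hme,
      ← Nat.modEq_and_modEq_iff_modEq_mul hco]
    refine ⟨?_, ?_⟩
    · exact (Nat.modEq_zero_iff_dvd.mpr (hqe.mul_right n)).trans hn1.symm
    · simpa using hn2.mul_right n
  · rw [← Nat.cast_pow, mul_sub, mul_one, ← Nat.cast_mul, sub_eq_zero,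
      ZMod.natCast_eq_natCast_iff, hme]
    have := Nat.ModEq.mul_left' (q ^ e) hn2.symm
    simpa using this
  · rw [← Nat.cast_mul, ZMod.natCast_eq_zero_iff]
    calc m = q * (m / q) := (Nat.mul_div_cancel' hd).symm
      _ ∣ n * (m / q) := Nat.mul_dvd_mul_right (he.trans hqe) _

namespace QData

variable (Q : QData m)

/-- The element of order `q`. -/
def c : ZMod m := ((m / Q.q : ℕ) : ZMod m)

/-- The elements of order prime to `q`. -/
def W (i : ZMod m) : Prop := Q.E0 * i = i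

lemma W_zero : Q.W 0 := mul_zero _

lemma W_mul {i : ZMod m} (a : ZMod m) (h : Q.W i) : Q.W (a * i) := by
  rw [W] at h ⊢
  rw [mul_left_comm, h]

lemma W_E0 (i : ZMod m) : Q.W (Q.E0 * i) := by
  rw [W, ← mul_assoc, Q.idem]

lemma natCast_mul_c (n : ℕ) : (n : ZMod m) * Q.c = 0 ↔ Q.q ∣ n := by
  rw [c, ← Nat.cast_mul, ZMod.natCast_eq_zero_iff]
  have hpos : 0 < m / Q.q :=
    Nat.div_pos (Nat.le_of_dvd (Nat.pos_of_ne_zero (NeZero.ne m)) Q.dvd) Q.prime.pos
  conv_lhs => arg 1; rw [← Nat.mul_div_cancel' Q.dvd]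
  exact Nat.mul_dvd_mul_iff_right hpos

lemma q_mul_c : (Q.q : ZMod m) * Q.c = 0 := (Q.natCast_mul_c _).mpr dvd_rfl

lemma c_ne_zero : Q.c ≠ 0 := by
  intro h
  have := (Q.natCast_mul_c 1).mp (by simpa using h)
  exact Q.prime.ne_one (Nat.dvd_one.mp this)

lemma not_W_c : ¬ Q.W Q.c := by
  intro h
  apply Q.c_ne_zero
  rw [← h]
  exact Q.c_kill

lemma not_W_add {g : ZMod m} (hg : Q.W g) {n : ℕ} (hn : ¬ Q.q ∣ n) :
    ¬ Q.W (g + (n : ZMod m) * Q.c) := by
  intro h
  apply hn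
  rw [← Q.natCast_mul_c]
  rw [W, mul_add, hg, mul_left_comm, show Q.E0 * Q.c = 0 from Q.c_kill, mul_zero, add_zero] at h
  simpa using h

lemma exists_eq_mul_c {z : ZMod m} (hz : (Q.q : ZMod m) * z = 0) :
    ∃ n : ℕ, n < Q.q ∧ z = (n : ZMod m) * Q.c := by
  rw [← ZMod.natCast_zmod_val z, ← Nat.cast_mul, ZMod.natCast_eq_zero_iff] at hz
  have hdiv : m / Q.q ∣ z.val := by
    conv at hz => arg 1; rw [← Nat.mul_div_cancel' Q.dvd]
    exact Nat.dvd_of_mul_dvd_mul_left Q.prime.pos hz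
  obtain ⟨n, hn⟩ := hdiv
  refine ⟨n, ?_, ?_⟩
  · by_contra hle
    push Not at hle
    have h1 := Nat.mul_le_mul_left (m / Q.q) hle
    rw [Nat.div_mul_cancel Q.dvd, ← hn] at h1
    exact absurd (ZMod.val_lt z) (not_lt.mpr h1)
  · rw [c, ← Nat.cast_mul, Nat.mul_comm, ← hn, ZMod.natCast_zmod_val]

/-- A unit fixing the `q'`-part and acting on the `q`-part as a given integer prime to `q`. -/
lemma exists_unit_q {n : ℕ} (hn : ¬ Q.q ∣ n) :
    ∃ k : (ZMod m)ˣ, (k : ZMod m) = Q.E0 + (1 - Q.E0) * n := by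
  have hco : Nat.Coprime n (Q.q ^ Q.e) :=
    (((Q.prime.coprime_iff_not_dvd).mpr hn).symm).pow_right _
  obtain ⟨n', -, hn'⟩ : ∃ n', True ∧ (n * n') ≡ 1 [MOD Q.q ^ Q.e] := by
    rcases Nat.eq_zero_or_pos Q.e with h0 | hpos
    · exact ⟨0, trivial, by simp [h0, Nat.modEq_one]⟩
    · obtain ⟨n', -, hn'⟩ := Nat.exists_mul_mod_eq_one_of_coprime hco
        (Nat.one_lt_pow hpos.ne' Q.prime.one_lt)
      exact ⟨n', trivial, by rw [Nat.ModEq, hn', Nat.one_mod_eq_one.mpr
        (Nat.one_lt_pow hpos.ne' Q.prime.one_lt).ne']⟩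
  have hz : (1 - Q.E0) * ((n : ZMod m) * n' - 1) = 0 := by
    have hd : ((Q.q ^ Q.e : ℕ) : ℤ) ∣ (n : ℤ) * n' - 1 := by
      have := (Nat.modEq_iff_dvd).mp hn'.symm
      push_cast at this ⊢
      exact this
    obtain ⟨t, ht⟩ := hd
    have := congrArg (fun z : ℤ => (z : ZMod m)) ht
    push_cast at this
    rw [this, ← mul_assoc, mul_comm (1 - Q.E0), Q.kill, zero_mul]
  refine ⟨Units.mkOfMulEqOne (Q.E0 + (1 - Q.E0) * n) (Q.E0 + (1 - Q.E0) * n') ?_, rfl⟩
  linear_combination (1 - ((n : ZMod m) + n')) * Q.idem + ((n : ZMod m) * n') * Q.idem + hz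

/-- The inverse of multiplication by `q` on the elements of order prime to `q`. -/
lemma exists_unit_inv : ∃ k : (ZMod m)ˣ, ∀ g, Q.W g → (Q.q : ZMod m) * ((k : ZMod m) * g) = g := by
  obtain ⟨b, hb⟩ : ∃ b : ZMod m, (Q.q : ZMod m) * b * Q.E0 = Q.E0 := by
    obtain ⟨e', m', hm', hme⟩ := Nat.exists_eq_pow_mul_and_not_dvd (NeZero.ne m) Q.q Q.prime.ne_one
    have hco : Nat.Coprime Q.q m' := (Q.prime.coprime_iff_not_dvd).mpr hm'
    obtain ⟨n, hn1, hn2⟩ := Nat.chineseRemainder hco 0 1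
    obtain ⟨b, hb⟩ := Nat.modEq_zero_iff_dvd.mp hn1
    refine ⟨b, ?_⟩
    have hkill' : ((m' : ℕ) : ZMod m) * Q.E0 = 0 := by
      have h0 : ((Q.q ^ e' * m' : ℕ) : ZMod m) = 0 := by rw [← hme, ZMod.natCast_self]
      have hu : (m' : ZMod m) * Q.E0 * (1 - Q.E0) = 0 := by linear_combination -(m' : ZMod m) * Q.idem
      -- the idempotent is divisible by the full power of `q`
      obtain ⟨t, ht⟩ : ((Q.q : ZMod m) ^ e') ∣ Q.E0 := by
        have hc0 := Q.c_kill
        have hdvdq : ∀ j, j ≤ e' → ((Q.q : ZMod m) ^ j) ∣ Q.E0 := by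
          intro j
          induction j with
          | zero => intro _; simp
          | succ j ih =>
            intro hj
            obtain ⟨t, ht⟩ := ih (by omega)
            have hq1 : (Q.q : ZMod m) ∣ Q.E0 := by
              rw [← ZMod.natCast_zmod_val Q.E0, ← Nat.cast_mul, ZMod.natCast_eq_zero_iff] at hc0
              conv at hc0 => arg 1; rw [← Nat.mul_div_cancel' Q.dvd]
              have hpos : 0 < m / Q.q := Nat.div_pos
                (Nat.le_of_dvd (Nat.pos_of_ne_zero (NeZero.ne m)) Q.dvd) Q.prime.pos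
              obtain ⟨u, hu⟩ := Nat.dvd_of_mul_dvd_mul_right hpos hc0
              exact ⟨u, by rw [← Nat.cast_mul, ← hu, ZMod.natCast_zmod_val]⟩
            obtain ⟨u, hu⟩ := hq1
            refine ⟨t * u, ?_⟩
            calc Q.E0 = Q.E0 * Q.E0 := Q.idem.symm
              _ = (Q.q : ZMod m) ^ j * t * ((Q.q : ZMod m) * u) := by rw [← ht, ← hu]
              _ = _ := by ring
        exact hdvdq e' le_rfl
      rw [ht]
      push_cast at h0
      linear_combination t * h0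
    have hn2' : ((m' : ℕ) : ℤ) ∣ (n : ℤ) - 1 := by
      have := (Nat.modEq_iff_dvd).mp hn2.symm
      simpa using this
    obtain ⟨t, ht⟩ := hn2'
    have := congrArg (fun z : ℤ => (z : ZMod m)) ht
    push_cast at this
    rw [hb] at this
    push_cast at this
    linear_combination Q.E0 * this + (t : ZMod m) * hkill'
  refine ⟨Units.mkOfMulEqOne (Q.E0 * b + (1 - Q.E0)) (Q.E0 * Q.q + (1 - Q.E0)) ?_, ?_⟩
  · linear_combination Q.idem * ((Q.q : ZMod m) * b - b - Q.q + 1) + hb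
  · intro g hg
    show (Q.q : ZMod m) * ((Q.E0 * b + (1 - Q.E0)) * g) = g
    rw [W] at hg
    linear_combination g * hb + hg * (1 - (Q.q : ZMod m))

/-- If `q * x` is not of order prime to `q`, then `x + c` generates the same subgroup as `x`. -/
lemma exists_unit_add_c {x : ZMod m} (hx : ¬ Q.W ((Q.q : ZMod m) * x)) :
    ∃ k : (ZMod m)ˣ, (k : ZMod m) * x = x + Q.c := by
  classical
  set y := (1 - Q.E0) * ((Q.q : ZMod m) * x) with hy
  have hy0 : y ≠ 0 := by
    intro h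
    apply hx
    rw [W]
    linear_combination -1 * h + hy
  have hex : ∃ t, (Q.q : ZMod m) ^ t * y = 0 := ⟨Q.e, by rw [hy, ← mul_assoc, Q.kill, zero_mul]⟩
  set t := Nat.find hex with ht
  have ht0 : t ≠ 0 := by
    intro h
    have := Nat.find_spec hex
    rw [← ht, h, pow_zero, one_mul] at this
    exact hy0 this
  set z := (Q.q : ZMod m) ^ (t - 1) * y with hz
  have hz0 : z ≠ 0 := Nat.find_min hex (by omega)
  have hqz : (Q.q : ZMod m) * z = 0 := by
    rw [hz, ← mul_assoc, ← pow_succ', Nat.sub_add_cancel (by omega)]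
    exact Nat.find_spec hex
  obtain ⟨a, ha, hza⟩ := Q.exists_eq_mul_c hqz
  have hqa : ¬ Q.q ∣ a := by
    intro h
    exact hz0 (hza.trans ((Q.natCast_mul_c a).mpr h))
  obtain ⟨b, -, hb⟩ := Nat.exists_mul_mod_eq_one_of_coprime
    ((Q.prime.coprime_iff_not_dvd.mpr hqa).symm) Q.prime.one_lt
  have hc : (b : ZMod m) * z = Q.c := by
    rw [hza, ← mul_assoc, ← Nat.cast_mul, Nat.mul_comm b a, ← Nat.mod_add_div (a * b) Q.q, hb]
    push_cast
    linear_combination ((a * b / Q.q : ℕ) : ZMod m) * Q.q_mul_c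
  set j := (b : ZMod m) * (Q.q : ZMod m) ^ (t - 1) * (1 - Q.E0) with hj
  have hcj : Q.c = j * ((Q.q : ZMod m) * x) := by
    rw [← hc, hz, hy, hj]
    ring
  refine exists_unit_mul (a := 1 + Q.q * j) (b := 1 - Q.q * j) ?_ ?_
  · linear_combination -1 * hcj
  · linear_combination (1 : ZMod m) * hcj - j * Q.q_mul_c

end QData

end Cfsg.Agent.DihedralB
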