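import Mathlib

/-!
# Schur rings over dihedral groups: basics

An `SRing m` is the partition of the dihedral group of order `2m` of a primitive Schur ring: the
class functions of the partition are closed under convolution, inversion permutes the classes,
and no proper nontrivial subgroup is a union of classes.
-/

set_option autoImplicit false
set_option maxHeartbeats 1000000

namespace Cfsg.Agent.DihedralB

open DihedralGroup

variable {m : ℕ} [NeZero m] {R : Type*} [CommRing R]

/-- Convolution of functions on the dihedral group. -/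
def conv (f g : DihedralGroup m → R) : DihedralGroup m → R :=
  fun x => ∑ y, f y * g (y⁻¹ * x)

/-- A function constant on the classes of `E`. -/
def Inv (E : DihedralGroup m → DihedralGroup m → Prop) (f : DihedralGroup m → R) : Prop :=
  ∀ x y, E x y → f x = f y

/-- The partition of a primitive Schur ring over the dihedral group of order `2m`. -/
structure SRing (m : ℕ) [NeZero m] where
  E : DihedralGroup m → DihedralGroup m → Prop
  equiv : Equivalence E
  one_class : ∀ x, E 1 x → x = 1
  conv_inv : ∀ f g : DihedralGroup m → ℤ, Inv E f → Inv E g → Inv E (conv f g)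
  inv_rel : ∀ x y, E x y → E x⁻¹ y⁻¹
  prim : ∀ K : Subgroup (DihedralGroup m), (∀ x y, E x y → x ∈ K → y ∈ K) → K = ⊥ ∨ K = ⊤

/-- The part of a function on the rotations. -/
def pA (f : DihedralGroup m → R) : ZMod m → R := fun i => f (r i)

/-- The part of a function on the reflections, written in the form `u * s`. -/
def pB (f : DihedralGroup m → R) : ZMod m → R := fun i => f (sr (-i))

lemma sum_dihedral {M : Type*} [AddCommMonoid M] (f : DihedralGroup m → M) :
    ∑ x, f x = ∑ i : ZMod m, f (r i) + ∑ i : ZMod m, f (sr (-i)) := by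
  classical
  let e : ZMod m ⊕ ZMod m ≃ DihedralGroup m :=
    { toFun := fun x => Sum.elim (fun i => r i) (fun i => sr (-i)) x
      invFun := fun x => match x with
        | r i => Sum.inl i
        | sr i => Sum.inr (-i)
      left_inv := by rintro (i | i) <;> simp
      right_inv := by rintro (i | i) <;> simp }
  rw [← e.sum_comp, Fintype.sum_sum_type]
  rfl

lemma conv_r (f g : DihedralGroup m → R) (i : ZMod m) :
    conv f g (r i) = ∑ j, pA f j * pA g (i - j) + ∑ j, pB f j * pB g (j - i) := by
  rw [conv, sum_dihedral]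
  congr 1
  · refine Finset.sum_congr rfl fun j _ => ?_
    rw [inv_r, r_mul_r, pA, pA, show -j + i = i - j from by ring]
  · refine Finset.sum_congr rfl fun j _ => ?_
    rw [inv_sr, sr_mul_r, pB, pB, show -(j - i) = -j + i from by ring]

lemma conv_sr (f g : DihedralGroup m → R) (i : ZMod m) :
    conv f g (sr (-i)) = ∑ j, pA f j * pB g (i - j) + ∑ j, pB f j * pA g (j - i) := by
  rw [conv, sum_dihedral]
  congr 1
  · refine Finset.sum_congr rfl fun j _ => ?_
    rw [inv_r, r_mul_sr, pA, pB, show -(i - j) = -i - -j from by ring]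
  · refine Finset.sum_congr rfl fun j _ => ?_
    rw [inv_sr, sr_mul_sr, pA, pB, show j - i = -i - -j from by ring]

lemma sum_conv (f g : DihedralGroup m → R) : ∑ x, conv f g x = (∑ x, f x) * ∑ x, g x := by
  simp only [conv]
  rw [Finset.sum_comm, Finset.sum_mul]
  refine Finset.sum_congr rfl fun y _ => ?_
  rw [← Finset.mul_sum]
  congr 1
  exact Equiv.sum_comp (Equiv.mulLeft y⁻¹) g

lemma conv_const (f : DihedralGroup m → R) (a : R) :
    conv f (fun _ => a) = fun _ => (∑ x, f x) * a := by
  funext x
  rw [conv, Finset.sum_mul]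

/-- The delta function at the identity. -/
def delta [DecidableEq (DihedralGroup m)] : DihedralGroup m → R := fun x => if x = 1 then 1 else 0

lemma delta_conv (f : DihedralGroup m → R) : conv delta f = f := by
  funext x
  rw [conv, Finset.sum_eq_single 1]
  · simp [delta]
  · intro b _ hb
    simp [delta, hb]
  · simp

namespace SRing

variable (S : SRing m)

lemma inv_of_cast (hR : Function.Surjective (Int.cast : ℤ → R)) {f g : DihedralGroup m → R}
    (hf : Inv S.E f) (hg : Inv S.E g) : Inv S.E (conv f g) := by
  have key := S.conv_inv (Function.surjInv hR ∘ f) (Function.surjInv hR ∘ g)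
    (fun x y h => by simp only [Function.comp_apply, hf x y h])
    (fun x y h => by simp only [Function.comp_apply, hg x y h])
  intro x y h
  have := congrArg (Int.cast : ℤ → R) (key x y h)
  simpa only [conv, Int.cast_sum, Int.cast_mul, Function.comp_apply,
    Function.surjInv_eq hR] using this

lemma delta_inv : Inv S.E (delta : DihedralGroup m → R) := by
  intro x y h
  simp only [delta]
  by_cases hx : x = 1
  · subst hx
    simp [S.one_class y h]
  · by_cases hy : y = 1
    · subst hy
      exact absurd (S.one_class x (S.equiv.symm h)) hx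
    · simp [hx, hy]

open Classical in
/-- The indicator function of a class. -/
noncomputable def ind (x : DihedralGroup m) : DihedralGroup m → R :=
  fun y => if S.E x y then 1 else 0

lemma ind_inv (x : DihedralGroup m) : Inv S.E (S.ind x : DihedralGroup m → R) := by
  intro a b h
  have : S.E x a ↔ S.E x b :=
    ⟨fun h' => S.equiv.trans h' h, fun h' => S.equiv.trans h' (S.equiv.symm h)⟩
  by_cases hxa : S.E x a
  · simp [ind, hxa, this.mp hxa]
  · simp [ind, hxa, mt this.mpr hxa]

lemma ind_self (x : DihedralGroup m) : (S.ind x x : R) = 1 := by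
  simp [ind, S.equiv.refl]

lemma conv_ind_pos {x y g : DihedralGroup m}
    (h : (0 : ℤ) < conv (S.ind x) (S.ind y) g) :
    ∃ a, S.E x a ∧ S.E y (a⁻¹ * g) := by
  by_contra hne
  have : conv (S.ind x) (S.ind y) g = (0 : ℤ) := by
    refine Finset.sum_eq_zero fun a _ => ?_
    by_cases ha : S.E x a
    · by_cases hb : S.E y (a⁻¹ * g)
      · exact absurd ⟨a, ha, hb⟩ hne
      · simp [ind, hb]
    · simp [ind, ha]
  omega

/-- Products of classes are unions of classes. -/
lemma mul_closed {a b z : DihedralGroup m} (h : S.E (a * b) z) :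
    ∃ a' b', S.E a a' ∧ S.E b b' ∧ a' * b' = z := by
  have hpos : (0 : ℤ) < conv (S.ind a) (S.ind b) (a * b) := by
    refine Finset.sum_pos' (fun c _ => ?_) ⟨a, Finset.mem_univ _, ?_⟩
    · simp only [ind]; split_ifs <;> simp
    · simp [ind, S.equiv.refl]
  rw [S.conv_inv _ _ (S.ind_inv a) (S.ind_inv b) (a * b) z h] at hpos
  obtain ⟨a', ha, hb⟩ := S.conv_ind_pos hpos
  exact ⟨a', a'⁻¹ * z, ha, hb, by group⟩

/-- The subgroup generated by a union of classes is a union of classes. -/
lemma closure_union {P : Set (DihedralGroup m)} (hP : ∀ x y, S.E x y → x ∈ P → y ∈ P) :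
    ∀ x y, S.E x y → x ∈ Subgroup.closure P → y ∈ Subgroup.closure P := by
  intro x y h hx
  revert y
  induction hx using Subgroup.closure_induction with
  | mem a ha => exact fun y h => Subgroup.subset_closure (hP a y h ha)
  | one =>
    intro y h
    rw [S.one_class y h]
    exact one_mem _
  | mul a b _ _ iha ihb =>
    intro y h
    obtain ⟨a', b', ha, hb, rfl⟩ := S.mul_closed h
    exact mul_mem (iha a' ha) (ihb b' hb)
  | inv a _ iha =>
    intro y h
    have h' := S.inv_rel _ _ h
    rw [inv_inv] at h'
    simpa using inv_mem (iha _ h')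

/-- The subgroup of rotations. -/
def rot (m : ℕ) [NeZero m] : Subgroup (DihedralGroup m) where
  carrier := {x | ∃ i, x = r i}
  mul_mem' := by rintro _ _ ⟨i, rfl⟩ ⟨j, rfl⟩; exact ⟨i + j, rfl⟩
  one_mem' := ⟨0, rfl⟩
  inv_mem' := by rintro _ ⟨i, rfl⟩; exact ⟨-i, rfl⟩

omit [NeZero m] in
lemma sr_ne_one (i : ZMod m) : (sr i : DihedralGroup m) ≠ 1 := by
  intro h
  rw [one_def] at h
  cases h

variable (hm : 2 ≤ m)
include hm

/-- Every class meets the rotations. -/
lemma exists_rot (x : DihedralGroup m) : ∃ i, S.E x (r i) := by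
  by_contra hne
  push Not at hne
  have hsr : ∀ y, S.E x y → ∃ i, y = sr i := by
    intro y hy
    cases y with
    | r i => exact absurd hy (hne i)
    | sr i => exact ⟨i, rfl⟩
  have huniq : ∀ y, S.E x y → y = x := by
    intro y hy
    by_contra hyx
    obtain ⟨i, hi⟩ := hsr x (S.equiv.refl x)
    obtain ⟨j, hj⟩ := hsr y hy
    have hrot : ∀ z, S.E (x * y) z → z ∈ rot m := by
      intro z hz
      obtain ⟨a, b, ha, hb, rfl⟩ := S.mul_closed hz
      obtain ⟨k, rfl⟩ := hsr a ha
      obtain ⟨l, rfl⟩ := hsr b (S.equiv.trans hy hb)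
      exact ⟨l - k, rfl⟩
    have hne1 : x * y ≠ 1 := by
      intro h
      apply hyx
      have hxx : x * x = 1 := by rw [hi, sr_mul_sr, sub_self]; rfl
      exact mul_left_cancel (h.trans hxx.symm)
    rcases S.prim _ (S.closure_union (P := {z | S.E (x * y) z})
        (fun a b h ha => S.equiv.trans ha h)) with hK | hK
    · have : x * y ∈ (⊥ : Subgroup (DihedralGroup m)) :=
        hK ▸ Subgroup.subset_closure (S.equiv.refl _)
      exact hne1 (Subgroup.mem_bot.mp this)
    · have : x ∈ rot m :=
        (Subgroup.closure_le (rot m)).mpr hrot (hK ▸ Subgroup.mem_top x)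
      obtain ⟨k, hk⟩ := this
      rw [hi] at hk
      simp at hk
  obtain ⟨i, hi⟩ := hsr x (S.equiv.refl x)
  rcases S.prim _ (S.closure_union (P := {z | S.E x z})
      (fun a b h ha => S.equiv.trans ha h)) with hK | hK
  · have : x ∈ (⊥ : Subgroup (DihedralGroup m)) := hK ▸ Subgroup.subset_closure (S.equiv.refl _)
    rw [Subgroup.mem_bot, hi] at this
    exact sr_ne_one i this
  · have hcl : Subgroup.closure {z | S.E x z} ≤ Subgroup.zpowers x := by
      refine (Subgroup.closure_le _).mpr fun z hz => ?_
      rw [huniq z hz]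
      exact Subgroup.mem_zpowers x
    rw [hK, top_le_iff] at hcl
    have h1 : orderOf x = Nat.card (DihedralGroup m) := by
      rw [← Nat.card_zpowers, hcl, Subgroup.card_top]
    rw [hi, orderOf_sr, DihedralGroup.nat_card] at h1
    omega

/-- Every nontrivial class meets the reflections. -/
lemma exists_refl {x : DihedralGroup m} (hx : x ≠ 1) : ∃ i, S.E x (sr i) := by
  by_contra hne
  push Not at hne
  have hrot : ∀ z, S.E x z → z ∈ rot m := by
    intro z hz
    cases z with
    | r i => exact ⟨i, rfl⟩
    | sr i => exact absurd hz (hne i)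
  rcases S.prim _ (S.closure_union (P := {z | S.E x z})
      (fun a b h ha => S.equiv.trans ha h)) with hK | hK
  · have : x ∈ (⊥ : Subgroup (DihedralGroup m)) := hK ▸ Subgroup.subset_closure (S.equiv.refl _)
    exact hx (Subgroup.mem_bot.mp this)
  · have : sr (0 : ZMod m) ∈ rot m :=
      (Subgroup.closure_le (rot m)).mpr hrot (hK ▸ Subgroup.mem_top _)
    obtain ⟨k, hk⟩ := this
    simp at hk

/-- All classes are closed under inversion. -/
lemma rel_inv (x : DihedralGroup m) : S.E x x⁻¹ := by
  by_cases hx : x = 1
  · subst hx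
    simpa using S.equiv.refl 1
  obtain ⟨i, hi⟩ := S.exists_refl hm hx
  have h' := S.inv_rel _ _ hi
  rw [inv_sr] at h'
  exact S.equiv.trans hi (S.equiv.symm h')

lemma apply_inv {f : DihedralGroup m → R} (hf : Inv S.E f) (x : DihedralGroup m) : f x⁻¹ = f x :=
  (hf _ _ (S.rel_inv hm x)).symm

lemma pA_neg {f : DihedralGroup m → R} (hf : Inv S.E f) (i : ZMod m) : pA f (-i) = pA f i := by
  simp only [pA]
  rw [← inv_r, S.apply_inv hm hf]

lemma conv_comm (hR : Function.Surjective (Int.cast : ℤ → R)) {f g : DihedralGroup m → R}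
    (hf : Inv S.E f) (hg : Inv S.E g) : conv f g = conv g f := by
  funext x
  rw [← S.apply_inv hm (S.inv_of_cast hR hf hg) x]
  simp only [conv]
  refine Fintype.sum_equiv (Equiv.mulLeft x) _ _ fun y => ?_
  simp only [Equiv.coe_mulLeft, mul_inv_rev, mul_assoc, inv_mul_cancel, mul_one]
  rw [S.apply_inv hm hf y, ← mul_inv_rev, S.apply_inv hm hg (x * y), mul_comm]

/-- A function on classes which vanishes on the rotations is zero. -/
lemma eq_zero_of_pA {f : DihedralGroup m → R} (hf : Inv S.E f) (h : ∀ i, pA f i = 0) : f = 0 := by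
  funext x
  obtain ⟨i, hi⟩ := S.exists_rot hm x
  rw [hf _ _ hi]
  exact h i

/-- A class function invariant under a nontrivial left translation is constant. -/
lemma const_of_translation {f : DihedralGroup m → ℤ} (hf : Inv S.E f) {g : DihedralGroup m}
    (hg : g ≠ 1) (hgf : ∀ y, f (g * y) = f y) (x : DihedralGroup m) : f x = f 1 := by
  let H : Subgroup (DihedralGroup m) :=
    { carrier := {h | ∀ y, f (h * y) = f y}
      mul_mem' := fun {a b} ha hb y => by rw [mul_assoc, ha, hb]
      one_mem' := fun y => by rw [one_mul]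
      inv_mem' := fun {a} ha y => by
        have := ha (a⁻¹ * y)
        rw [mul_inv_cancel_left] at this
        exact this.symm
        }
  have hkey : ∀ h, h ∈ H ↔ conv f f h = ∑ y, f y * f y := by
    intro h
    have hc : conv f f h = ∑ y, f y * f (h⁻¹ * y) := by
      refine Finset.sum_congr rfl fun y _ => ?_
      rw [← S.apply_inv hm hf (y⁻¹ * h), mul_inv_rev, inv_inv]
    rw [hc]
    constructor
    · intro hh
      have hh' : h⁻¹ ∈ H := H.inv_mem hh
      exact Finset.sum_congr rfl fun y _ => by rw [hh' y]
    · intro he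
      have hsq : ∑ y, (f y - f (h⁻¹ * y)) ^ 2 = 0 := by
        have e2 : ∑ y, f (h⁻¹ * y) * f (h⁻¹ * y) = ∑ y, f y * f y :=
          Equiv.sum_comp (Equiv.mulLeft h⁻¹) (fun y => f y * f y)
        have : ∀ y, (f y - f (h⁻¹ * y)) ^ 2 =
            f y * f y + f (h⁻¹ * y) * f (h⁻¹ * y) - 2 * (f y * f (h⁻¹ * y)) := fun y => by ring
        simp only [this, Finset.sum_sub_distrib, Finset.sum_add_distrib, ← Finset.mul_sum, e2, he]
        ring
      rw [Finset.sum_eq_zero_iff_of_nonneg fun y _ => sq_nonneg _] at hsq
      intro y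
      have := hsq (h * y) (Finset.mem_univ _)
      rwa [sq_eq_zero_iff, sub_eq_zero, inv_mul_cancel_left] at this
  rcases S.prim H (fun a b hab ha => by
      rw [hkey] at ha ⊢
      rw [← S.conv_inv f f hf hf a b hab, ha]) with hH | hH
  · exact absurd (Subgroup.mem_bot.mp (hH ▸ (show g ∈ H from hgf))) hg
  · have : x ∈ H := hH ▸ Subgroup.mem_top x
    simpa using this 1

end SRing

end Cfsg.Agent.DihedralB
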