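import Mathlib
import Cfsg.Agent.DihedralB.Basic

/-!
# The matrix model of the group algebra of a dihedral group
-/

set_option autoImplicit false
set_option maxHeartbeats 1000000

namespace Cfsg.Agent.DihedralB

open DihedralGroup Matrix

variable {m : ℕ} [NeZero m] {R : Type*} [CommRing R]

/-- The group algebra of the cyclic group. -/
abbrev GU (R : Type*) [CommRing R] (m : ℕ) := AddMonoidAlgebra R (ZMod m)

/-- An element of the cyclic group algebra from its coefficients. -/
noncomputable def toGU (a : ZMod m → R) : GU R m :=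
  AddMonoidAlgebra.ofCoeff (Finsupp.equivFunOnFinite.symm a)

@[simp] lemma coeff_toGU (a : ZMod m → R) (i : ZMod m) : (toGU a).coeff i = a i := by
  simp [toGU]

lemma coeff_mul_GU (x y : GU R m) (i : ZMod m) :
    (x * y).coeff i = ∑ j, x.coeff j * y.coeff (i - j) := by
  classical
  rw [AddMonoidAlgebra.coeff_mul_antidiag x y i
    (Finset.univ.image fun j : ZMod m => (j, i - j))]
  · rw [Finset.sum_image (by intro a _ b _ h; exact (Prod.ext_iff.mp h).1)]
  · intro p
    simp only [Finset.mem_image, Finset.mem_univ, true_and]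
    constructor
    · rintro ⟨j, rfl⟩
      simp
    · intro h
      refine ⟨p.1, Prod.ext rfl ?_⟩
      simp [← h]

/-- The matrix of a function on the dihedral group. -/
noncomputable def toMat (f : DihedralGroup m → R) : Matrix (Fin 2) (Fin 2) (GU R m) :=
  !![toGU (pA f), toGU (pB f); toGU (fun i => pB f (-i)), toGU (fun i => pA f (-i))]

lemma toMat_conv (f g : DihedralGroup m → R) : toMat (conv f g) = toMat f * toMat g := by
  ext a b i
  fin_cases a <;> fin_cases b
  · simp [toMat, Matrix.mul_apply, coeff_mul_GU, pA, conv_r]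
  · simp only [toMat, Matrix.mul_apply, Fin.sum_univ_two]
    simp [coeff_mul_GU, pB, conv_sr]
  · simp only [toMat, Matrix.mul_apply, Fin.sum_univ_two]
    simp only [Fin.zero_eta, Fin.mk_one, Matrix.cons_val', Matrix.cons_val_zero,
      Matrix.cons_val_one, Matrix.cons_val_fin_one, Matrix.of_apply, AddMonoidAlgebra.coeff_add,
      Finsupp.add_apply, coeff_toGU, coeff_mul_GU]
    rw [show pB (conv f g) (-i) = conv f g (sr (-(-i))) from rfl, conv_sr, add_comm]
    congr 1
    · refine Fintype.sum_equiv (Equiv.neg _) _ _ fun j => ?_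
      simp [sub_eq_add_neg, add_comm]
    · refine Fintype.sum_equiv (Equiv.neg _) _ _ fun j => ?_
      simp [sub_eq_add_neg, add_comm]
  · simp only [toMat, Matrix.mul_apply, Fin.sum_univ_two]
    simp only [Fin.zero_eta, Fin.mk_one, Matrix.cons_val', Matrix.cons_val_zero,
      Matrix.cons_val_one, Matrix.cons_val_fin_one, Matrix.of_apply, AddMonoidAlgebra.coeff_add,
      Finsupp.add_apply, coeff_toGU, coeff_mul_GU]
    rw [show pA (conv f g) (-i) = conv f g (r (-i)) from rfl, conv_r, add_comm]
    congr 1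
    · refine Fintype.sum_equiv (Equiv.neg _) _ _ fun j => ?_
      simp [sub_eq_add_neg, add_comm]
    · refine Fintype.sum_equiv (Equiv.neg _) _ _ fun j => ?_
      simp [sub_eq_add_neg, add_comm]

lemma toMat_add (f g : DihedralGroup m → R) : toMat (f + g) = toMat f + toMat g := by
  ext a b i
  fin_cases a <;> fin_cases b <;> simp [toMat, pA, pB]

lemma toMat_zero : toMat (0 : DihedralGroup m → R) = 0 := by
  ext a b i
  fin_cases a <;> fin_cases b <;> simp [toMat, pA, pB]

lemma toMat_neg (f : DihedralGroup m → R) : toMat (-f) = -toMat f := by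
  rw [eq_neg_iff_add_eq_zero, ← toMat_add, neg_add_cancel, toMat_zero]

omit [NeZero m] in
lemma r_eq_one (i : ZMod m) : (r i : DihedralGroup m) = 1 ↔ i = 0 :=
  ⟨fun h => by cases h; rfl, fun h => by rw [h]; rfl⟩

omit [NeZero m] in
lemma sr_eq_one (i : ZMod m) : (sr i : DihedralGroup m) = 1 ↔ False :=
  ⟨fun h => (by cases h), False.elim⟩

lemma toMat_delta : toMat (delta : DihedralGroup m → R) = 1 := by
  ext a b i
  fin_cases a <;> fin_cases b <;>
    simp [toMat, pA, pB, delta, AddMonoidAlgebra.one_def, Finsupp.single_apply, r_eq_one, sr_eq_one,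
      eq_comm]

/-- The function of a matrix. -/
noncomputable def ofMat (M : Matrix (Fin 2) (Fin 2) (GU R m)) : DihedralGroup m → R
  | r i => (M 0 0).coeff i
  | sr i => (M 0 1).coeff (-i)

@[simp] lemma ofMat_toMat (f : DihedralGroup m → R) : ofMat (toMat f) = f := by
  funext x
  cases x <;> simp [ofMat, toMat, pA, pB]

lemma toMat_injective : Function.Injective (toMat : (DihedralGroup m → R) → _) :=
  Function.LeftInverse.injective ofMat_toMat

/-- Convolution powers. -/
def powc (f : DihedralGroup m → R) : ℕ → DihedralGroup m → R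
  | 0 => delta
  | n + 1 => conv (powc f n) f

lemma toMat_powc (f : DihedralGroup m → R) (n : ℕ) : toMat (powc f n) = toMat f ^ n := by
  induction n with
  | zero => rw [pow_zero]; exact toMat_delta
  | succ n ih => rw [pow_succ, ← ih, ← toMat_conv]; rfl

lemma toGU_pow_char {p : ℕ} [Fact p.Prime] (a : ZMod m → ZMod p) (g : ZMod m) :
    (toGU a ^ p).coeff g = ∑ j, if p • j = g then a j else 0 := by
  classical
  haveI : CharP (GU (ZMod p) m) p :=
    charP_of_injective_algebraMap (RingHom.injective (algebraMap (ZMod p) (GU (ZMod p) m))) p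
  have h : toGU a = ∑ j, AddMonoidAlgebra.single j (a j) := by
    ext i
    simp [AddMonoidAlgebra.coeff_sum, Finsupp.finsetSum_apply, Finsupp.single_apply]
  rw [h, sum_pow_char, AddMonoidAlgebra.coeff_sum, Finsupp.finsetSum_apply]
  refine Finset.sum_congr rfl fun j _ => ?_
  rw [AddMonoidAlgebra.single_pow, ZMod.pow_card, AddMonoidAlgebra.coeff_single,
    Finsupp.single_apply]

lemma pow_char_00 {p : ℕ} [Fact p.Prime] (hp : Odd p) (f : DihedralGroup m → ZMod p)
    (hf : ∀ i, pA f (-i) = pA f i) : (toMat f ^ p) 0 0 = toGU (pA f) ^ p := by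
  haveI : CharP (GU (ZMod p) m) p :=
    charP_of_injective_algebraMap (RingHom.injective (algebraMap (ZMod p) (GU (ZMod p) m))) p
  haveI : CharP (Matrix (Fin 2) (Fin 2) (GU (ZMod p) m)) p := inferInstance
  set N : Matrix (Fin 2) (Fin 2) (GU (ZMod p) m) :=
    !![0, toGU (pB f); toGU (fun i => pB f (-i)), 0] with hN
  have hA : toMat f = Matrix.scalar (Fin 2) (toGU (pA f)) + N := by
    rw [hN, toMat, funext hf]
    ext a b i
    fin_cases a <;> fin_cases b <;> simp
  have hN2 : N * N =
      Matrix.scalar (Fin 2) (toGU (pB f) * toGU (fun i => pB f (-i))) := by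
    rw [hN]
    ext a b
    fin_cases a <;> fin_cases b <;> simp [Matrix.mul_apply, mul_comm]
  have hc : Commute (Matrix.scalar (Fin 2) (toGU (pA f))) N :=
    Matrix.scalar_commute _ (fun r => Commute.all _ r) N
  rw [hA, add_pow_char_of_commute p hc, Matrix.add_apply]
  obtain ⟨k, hk⟩ := hp
  have h00 : (N ^ p) 0 0 = 0 := by
    rw [show N ^ p = N ^ (2 * k + 1) from congrArg (fun n => N ^ n) hk]
    rw [pow_succ, pow_mul, pow_two, hN2, ← map_pow]
    simp [hN, Matrix.mul_apply]
  rw [h00, add_zero, ← map_pow]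
  simp

/-- The Frobenius formula on the rotation part of a class function. -/
lemma pA_powc_char {p : ℕ} [Fact p.Prime] (hp : Odd p) (f : DihedralGroup m → ZMod p)
    (hf : ∀ i, pA f (-i) = pA f i) (g : ZMod m) :
    pA (powc f p) g = ∑ j, if p • j = g then pA f j else 0 := by
  rw [← toGU_pow_char, ← pow_char_00 hp f hf, ← toMat_powc]
  simp [toMat]

namespace SRing

variable (S : SRing m)

lemma powc_inv (hR : Function.Surjective (Int.cast : ℤ → R)) {f : DihedralGroup m → R}
    (hf : Inv S.E f) (n : ℕ) : Inv S.E (powc f n) := by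
  induction n with
  | zero => exact S.delta_inv
  | succ n ih => exact S.inv_of_cast hR ih hf

/-- The ring of class functions, as matrices. -/
noncomputable def sub (hR : Function.Surjective (Int.cast : ℤ → R)) :
    Subring (Matrix (Fin 2) (Fin 2) (GU R m)) where
  carrier := {M | ∃ f, Inv S.E f ∧ toMat f = M}
  mul_mem' := by
    rintro _ _ ⟨f, hf, rfl⟩ ⟨g, hg, rfl⟩
    exact ⟨conv f g, S.inv_of_cast hR hf hg, toMat_conv f g⟩
  one_mem' := ⟨delta, S.delta_inv, toMat_delta⟩
  add_mem' := by
    rintro _ _ ⟨f, hf, rfl⟩ ⟨g, hg, rfl⟩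
    exact ⟨f + g, fun x y h => by simp [hf x y h, hg x y h], toMat_add f g⟩
  zero_mem' := ⟨0, fun _ _ _ => rfl, toMat_zero⟩
  neg_mem' := by
    rintro _ ⟨f, hf, rfl⟩
    exact ⟨-f, fun x y h => by simp [hf x y h], toMat_neg f⟩

/-- The ring of class functions is commutative. -/
@[reducible] noncomputable def subCommRing (hm : 2 ≤ m)
    (hR : Function.Surjective (Int.cast : ℤ → R)) : CommRing (S.sub hR) :=
  { (inferInstance : Ring (S.sub hR)) with
    mul_comm := by
      rintro ⟨_, f, hf, rfl⟩ ⟨_, g, hg, rfl⟩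
      apply Subtype.ext
      show toMat f * toMat g = toMat g * toMat f
      rw [← toMat_conv, ← toMat_conv, S.conv_comm hm hR hf hg] }

variable {S}

/-- The function of an element of the ring of class functions. -/
noncomputable def fn {hR : Function.Surjective (Int.cast : ℤ → R)} (x : S.sub hR) :
    DihedralGroup m → R := ofMat x.1

/-- The element of the ring of class functions given by a function. -/
noncomputable def mkc (hR : Function.Surjective (Int.cast : ℤ → R)) (f : DihedralGroup m → R)
    (hf : Inv S.E f) : S.sub hR := ⟨toMat f, f, hf, rfl⟩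

variable {hR : Function.Surjective (Int.cast : ℤ → R)}

lemma toMat_fn (x : S.sub hR) : toMat (fn x) = x.1 := by
  obtain ⟨_, f, hf, rfl⟩ := x
  simp [fn]

lemma fn_inv (x : S.sub hR) : Inv S.E (fn x) := by
  obtain ⟨_, f, hf, rfl⟩ := x
  simpa [fn] using hf

@[simp] lemma fn_mkc (f : DihedralGroup m → R) (hf : Inv S.E f) : fn (mkc hR f hf) = f := by
  simp [fn, mkc]

lemma fn_injective : Function.Injective (fn : S.sub hR → DihedralGroup m → R) := by
  intro x y h
  apply Subtype.ext
  rw [← toMat_fn x, ← toMat_fn y, h]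

lemma fn_mul (x y : S.sub hR) : fn (x * y) = conv (fn x) (fn y) := by
  apply toMat_injective
  rw [toMat_fn, toMat_conv, toMat_fn, toMat_fn]
  rfl

lemma fn_add (x y : S.sub hR) : fn (x + y) = fn x + fn y := by
  apply toMat_injective
  rw [toMat_fn, toMat_add, toMat_fn, toMat_fn]
  rfl

lemma fn_one : fn (1 : S.sub hR) = delta := by
  apply toMat_injective
  rw [toMat_fn, toMat_delta]
  rfl

lemma fn_zero : fn (0 : S.sub hR) = 0 := by
  apply toMat_injective
  rw [toMat_fn, toMat_zero]
  rfl

lemma fn_neg (x : S.sub hR) : fn (-x) = -fn x := by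
  apply toMat_injective
  rw [toMat_fn, toMat_neg, toMat_fn]
  rfl

lemma fn_pow (x : S.sub hR) (n : ℕ) : fn (x ^ n) = powc (fn x) n := by
  apply toMat_injective
  rw [toMat_fn, toMat_powc, toMat_fn]
  rfl

end SRing

end Cfsg.Agent.DihedralB
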