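import Mathlib
import Cfsg.Agent.DihedralB.Mat
import Cfsg.Agent.DihedralB.Arith

/-!
# Idempotent class functions are supported on elements of order prime to `q`
-/

set_option autoImplicit false
set_option maxHeartbeats 1000000

namespace Cfsg.Agent.DihedralB

open DihedralGroup

variable {m : ℕ} [NeZero m]

/-- The rotation part is supported on the elements of order prime to `q`. -/
def QData.Supp (Q : QData m) {R : Type*} [CommRing R] (f : DihedralGroup m → R) : Prop :=
  ∀ i, ¬ Q.W i → pA f i = 0

lemma eq_zero_of_mul_nilpotent {A : Type*} [CommRing A] {d z : A} (h : d = d ^ 2 * z)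
    (hd : IsNilpotent d) : d = 0 := by
  obtain ⟨n, hn⟩ := hd
  have : ∀ k, d = d ^ (k + 1) * z ^ k := by
    intro k
    induction k with
    | zero => simp
    | succ k ih =>
      calc d = d ^ k * d * z ^ k := by rwa [← pow_succ]
        _ = d ^ k * (d ^ 2 * z) * z ^ k := congrArg (fun t => d ^ k * t * z ^ k) h
        _ = _ := by ring
  rw [this n, pow_succ, hn, zero_mul, zero_mul]

lemma supp_of_idem (Q : QData m) (hodd : Odd Q.q) {R : Type*} [CommRing R] {N : ℕ}
    (hR : (Q.q : R) ^ N = 0) (f : DihedralGroup m → R) (hsym : ∀ i, pA f (-i) = pA f i)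
    (hidem : conv f f = f) : Q.Supp f := by
  classical
  have hM := toMat_conv f f
  rw [hidem] at hM
  have h00 := congrFun (congrFun hM 0) 0
  have h01 := congrFun (congrFun hM 0) 1
  simp only [toMat, funext hsym, Matrix.mul_apply, Fin.sum_univ_two, Matrix.cons_val',
    Matrix.cons_val_zero, Matrix.cons_val_one, Matrix.cons_val_fin_one, Matrix.of_apply] at h00 h01
  set A := toGU (pA f) with hAdef
  set B := toGU (pB f)
  set B' := toGU (fun i => pB f (-i))
  have hA : (2 * A - 1) * (A ^ 2 - A) = 0 := by
    linear_combination -(2 * A - 1) * h00 + B' * h01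
  set π : GU R m →+* GU R m :=
    AddMonoidAlgebra.mapDomainRingHom R (AddMonoidHom.mulLeft Q.E0) with hπ
  have hπA : (2 * π A - 1) * (π A ^ 2 - π A) = 0 := by
    have := congrArg π hA
    simpa only [map_mul, map_sub, map_pow, map_ofNat, map_one, map_zero] using this
  have hsum : A = ∑ j, AddMonoidAlgebra.single j (pA f j) := by
    ext i
    simp [hAdef, AddMonoidAlgebra.coeff_sum, Finsupp.finsetSum_apply, Finsupp.single_apply]
  have hπsingle : ∀ (j : ZMod m) (a : R),
      π (AddMonoidAlgebra.single j a) = AddMonoidAlgebra.single (Q.E0 * j) a := by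
    intro j a
    simp [hπ]
  have hq0 : IsNilpotent ((Q.q : GU R m)) := by
    refine ⟨N, ?_⟩
    have := congrArg (algebraMap R (GU R m)) hR
    simpa only [map_pow, map_natCast, map_zero] using this
  have hnil : IsNilpotent (A - π A) := by
    have : A - π A = ∑ j, (AddMonoidAlgebra.single j (pA f j) -
        AddMonoidAlgebra.single (Q.E0 * j) (pA f j)) := by
      rw [Finset.sum_sub_distrib, ← hsum]
      congr 1
      conv_lhs => rw [hsum]
      rw [map_sum]
      exact Finset.sum_congr rfl fun j _ => hπsingle j _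
    rw [this]
    refine isNilpotent_sum fun j _ => ?_
    obtain ⟨r, hr⟩ := exists_add_pow_prime_pow_eq Q.prime
      (AddMonoidAlgebra.single j (pA f j)) (-AddMonoidAlgebra.single (Q.E0 * j) (pA f j)) Q.e
    refine IsNilpotent.of_pow (m := Q.q ^ Q.e) ?_
    rw [sub_eq_add_neg, hr, (hodd.pow).neg_pow, AddMonoidAlgebra.single_pow,
      AddMonoidAlgebra.single_pow]
    have hexp : (Q.q ^ Q.e) • j = (Q.q ^ Q.e) • (Q.E0 * j) := by
      simp only [nsmul_eq_mul, Nat.cast_pow]
      linear_combination j * Q.kill
    rw [hexp, add_neg_cancel, zero_add, mul_assoc, mul_assoc]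
    exact Commute.isNilpotent_mul_right (Commute.all _ _) hq0
  have hd : A - π A = 0 := by
    refine eq_zero_of_mul_nilpotent (z := -((2 * (A + 2 * π A) - 3) * (12 * π A ^ 2 - 12 * π A + 1))) ?_
      hnil
    linear_combination (12 * π A ^ 2 - 12 * π A + 1) * (hA - hπA) -
      (A - π A) * (18 * (2 * π A - 1)) * hπA
  intro i hi
  have hcoef : (π A).coeff i = 0 := by
    rw [hsum, map_sum, AddMonoidAlgebra.coeff_sum, Finsupp.finsetSum_apply]
    refine Finset.sum_eq_zero fun j _ => ?_
    rw [hπsingle, AddMonoidAlgebra.coeff_single, Finsupp.single_apply, if_neg]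
    intro h
    exact hi (h ▸ Q.W_E0 j)
  rw [sub_eq_zero] at hd
  rw [← coeff_toGU (pA f) i, ← hAdef, hd, hcoef]

end Cfsg.Agent.DihedralB
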