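import Mathlib
import Cfsg.Agent.DihedralB.Mat

/-!
# Multipliers of Schur rings over dihedral groups
-/

set_option autoImplicit false
set_option maxHeartbeats 1000000

namespace Cfsg.Agent.DihedralB

open DihedralGroup

variable {m : ℕ} [NeZero m]

namespace SRing

variable (S : SRing m) (hm : 2 ≤ m)

/-- A large prime in a given invertible residue class. -/
lemma exists_prime (k : (ZMod m)ˣ) (n : ℕ) :
    ∃ p, p.Prime ∧ Odd p ∧ n < p ∧ (p : ZMod m) = (k : ZMod m) := by
  obtain ⟨p, hn, hp, he⟩ := Nat.forall_exists_prime_gt_and_eq_mod (q := m) k.isUnit (n + 2)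
  exact ⟨p, hp, hp.odd_of_ne_two (by omega), by omega, he⟩

include hm

lemma pA_powc_mul {p : ℕ} [Fact p.Prime] (hp : Odd p) {k : (ZMod m)ˣ}
    (hk : (p : ZMod m) = (k : ZMod m)) {f : DihedralGroup m → ZMod p} (hf : Inv S.E f)
    (i : ZMod m) : pA (powc f p) ((k : ZMod m) * i) = pA f i := by
  rw [pA_powc_char hp f (S.pA_neg hm hf), Finset.sum_eq_single i]
  · simp [nsmul_eq_mul, hk]
  · intro b _ hb
    rw [nsmul_eq_mul, hk, if_neg]
    intro h
    exact hb (k.isUnit.mul_left_cancel h)
  · simp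

/-- Multiplication by units permutes the classes meeting the rotations. -/
lemma rel_mul (k : (ZMod m)ˣ) {i j : ZMod m} (h : S.E (r i) (r j)) :
    S.E (r ((k : ZMod m) * i)) (r ((k : ZMod m) * j)) := by
  obtain ⟨p, hp, hodd, -, hpk⟩ := exists_prime k⁻¹ 0
  have hpf := Fact.mk hp
  have hs : Function.Surjective (Int.cast : ℤ → ZMod p) := ZMod.intCast_surjective
  set f : DihedralGroup m → ZMod p := S.ind (r ((k : ZMod m) * i))
  have hf : Inv S.E f := S.ind_inv _
  have he : ∀ x, pA (powc f p) x = f (r ((k : ZMod m) * x)) := by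
    intro x
    conv_lhs => rw [show x = ((k⁻¹ : (ZMod m)ˣ) : ZMod m) * ((k : ZMod m) * x) by
      rw [← mul_assoc, Units.inv_mul, one_mul]]
    rw [S.pA_powc_mul hm hodd hpk hf]
    rfl
  have h1 : pA (powc f p) i = pA (powc f p) j := S.powc_inv hs hf p _ _ h
  rw [he, he] at h1
  by_contra hne
  simp [f, ind, S.equiv.refl, hne] at h1

omit hm in
lemma sum_powc (p : ℕ) {R : Type*} [CommRing R] (f : DihedralGroup m → R) :
    ∑ x, powc f p x = (∑ x, f x) ^ p := by
  induction p with
  | zero => simp [powc, delta]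
  | succ n ih => rw [pow_succ, ← ih, ← sum_conv]; rfl

open Classical in
/-- Multiplication by units preserves the sizes of classes. -/
lemma card_class_mul (k : (ZMod m)ˣ) (i : ZMod m) :
    (Finset.univ.filter fun y => S.E (r i) y).card =
      (Finset.univ.filter fun y => S.E (r ((k : ZMod m) * i)) y).card := by
  obtain ⟨p, hp, hodd, hbig, hpk⟩ := exists_prime k (2 * m)
  have hpf := Fact.mk hp
  have hs : Function.Surjective (Int.cast : ℤ → ZMod p) := ZMod.intCast_surjective
  set f : DihedralGroup m → ZMod p := S.ind (r i)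
  have hf : Inv S.E f := S.ind_inv _
  have hpc : powc f p = S.ind (r ((k : ZMod m) * i)) := by
    apply eq_of_sub_eq_zero
    apply S.eq_zero_of_pA hm
    · intro a b hab
      simp only [Pi.sub_apply, S.powc_inv hs hf p a b hab,
        (S.ind_inv (R := ZMod p) (r ((k : ZMod m) * i))) a b hab]
    intro x
    obtain ⟨y, rfl⟩ : ∃ y, x = (k : ZMod m) * y :=
      ⟨((k⁻¹ : (ZMod m)ˣ) : ZMod m) * x, by rw [← mul_assoc, Units.mul_inv, one_mul]⟩
    have hiff : S.E (r i) (r y) ↔ S.E (r ((k : ZMod m) * i)) (r ((k : ZMod m) * y)) := by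
      refine ⟨S.rel_mul hm k, fun h => ?_⟩
      have := S.rel_mul hm k⁻¹ h
      simpa [← mul_assoc] using this
    rw [show pA (powc f p - S.ind (r ((k : ZMod m) * i))) ((k : ZMod m) * y) =
      pA (powc f p) ((k : ZMod m) * y) - S.ind (r ((k : ZMod m) * i)) (r ((k : ZMod m) * y))
      from rfl, S.pA_powc_mul hm hodd hpk hf, sub_eq_zero]
    simp [f, pA, ind, hiff]
  have hsum := sum_powc p f
  rw [hpc, ZMod.pow_card] at hsum
  simp only [f, ind, Finset.sum_boole] at hsum
  have hlt : ∀ s : Finset (DihedralGroup m), s.card < p := fun s =>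
    lt_of_le_of_lt (Finset.card_le_univ s) (by rw [DihedralGroup.card]; omega)
  have := (ZMod.natCast_eq_natCast_iff' _ _ _).mp hsum
  rw [Nat.mod_eq_of_lt (hlt _), Nat.mod_eq_of_lt (hlt _)] at this
  exact this.symm

/-- The coarsening of a Schur ring by the multipliers. -/
def Erat (x y : DihedralGroup m) : Prop :=
  ∀ f : DihedralGroup m → ℤ, Inv S.E f →
    (∀ (k : (ZMod m)ˣ) i, f (r ((k : ZMod m) * i)) = f (r i)) → f x = f y

omit hm in
lemma inv_erat_iff {f : DihedralGroup m → ℤ} :
    Inv S.Erat f ↔ Inv S.E f ∧ ∀ (k : (ZMod m)ˣ) i, f (r ((k : ZMod m) * i)) = f (r i) :=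
  ⟨fun h => ⟨fun x y hxy => h x y fun g hg _ => hg x y hxy,
    fun k i => h _ _ fun g _ hgk => hgk k i⟩, fun h x y hxy => hxy f h.1 h.2⟩

/-- The rational Schur ring below a given one. -/
def rat : SRing m where
  E := S.Erat
  equiv := ⟨fun x f _ _ => rfl, fun h f a b => (h f a b).symm,
    fun h h' f a b => (h f a b).trans (h' f a b)⟩
  one_class := by
    intro x h
    have := h delta S.delta_inv (fun k i => by
      have : (k : ZMod m) * i = 0 ↔ i = 0 := k.isUnit.mul_right_eq_zero
      simp only [delta, r_eq_one, this])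
    simpa [delta] using this
  inv_rel := by
    intro x y h f hf hk
    refine h (fun z => f z⁻¹) (fun a b hab => hf _ _ (S.inv_rel _ _ hab)) fun k i => ?_
    simp only [inv_r]
    rw [← mul_neg]
    exact hk k (-i)
  prim := by
    intro K hK
    exact S.prim K fun x y hxy => hK x y fun g hg _ => hg x y hxy
  conv_inv := by
    intro f g hf hg
    rw [S.inv_erat_iff] at hf hg ⊢
    refine ⟨S.conv_inv f g hf.1 hg.1, fun k i => ?_⟩
    obtain ⟨p, hp, hodd, hbig, hpk⟩ :=
      exists_prime k (conv f g (r ((k : ZMod m) * i)) - conv f g (r i)).natAbs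
    have hpf := Fact.mk hp
    have hs : Function.Surjective (Int.cast : ℤ → ZMod p) := ZMod.intCast_surjective
    letI := S.subCommRing hm hs
    let cast' : (DihedralGroup m → ℤ) → DihedralGroup m → ZMod p := fun u x => (u x : ZMod p)
    have fixed : ∀ u : DihedralGroup m → ℤ, Inv S.E u →
        (∀ (k : (ZMod m)ˣ) i, u (r ((k : ZMod m) * i)) = u (r i)) →
        ∀ hu : Inv S.E (cast' u), (mkc hs (cast' u) hu) ^ p = mkc hs (cast' u) hu := by
      intro u _ hrat hu'
      apply fn_injective
      rw [fn_pow, fn_mkc]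
      apply eq_of_sub_eq_zero
      apply S.eq_zero_of_pA hm
      · intro a b hab
        simp only [Pi.sub_apply, S.powc_inv hs hu' p a b hab, hu' a b hab]
      intro x
      obtain ⟨y, rfl⟩ : ∃ y, x = (k : ZMod m) * y :=
        ⟨((k⁻¹ : (ZMod m)ˣ) : ZMod m) * x, by rw [← mul_assoc, Units.mul_inv, one_mul]⟩
      rw [show pA (powc (cast' u) p - cast' u) ((k : ZMod m) * y) =
        pA (powc (cast' u) p) ((k : ZMod m) * y) - cast' u (r ((k : ZMod m) * y)) from rfl,
        S.pA_powc_mul hm hodd hpk hu', sub_eq_zero]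
      simp [cast', pA, hrat]
    have hf' : Inv S.E (cast' f) := fun a b h => by simp [cast', hf.1 a b h]
    have hg' : Inv S.E (cast' g) := fun a b h => by simp [cast', hg.1 a b h]
    have h1 : (mkc hs _ hf' * mkc hs _ hg') ^ p = mkc hs _ hf' * mkc hs _ hg' := by
      rw [mul_pow, fixed f hf.1 hf.2 hf', fixed g hg.1 hg.2 hg']
    have h2 := congrArg (fun z => pA (fn z) ((k : ZMod m) * i)) h1
    simp only [fn_pow, fn_mul, fn_mkc] at h2
    rw [S.pA_powc_mul hm hodd hpk (S.inv_of_cast hs hf' hg')] at h2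
    have hc : ∀ x, conv (cast' f) (cast' g) x = ((conv f g x : ℤ) : ZMod p) := by
      intro x
      simp [conv, cast', Int.cast_sum, Int.cast_mul]
    simp only [pA, hc] at h2
    rw [ZMod.intCast_eq_intCast_iff, Int.modEq_iff_dvd] at h2
    have := Int.eq_zero_of_dvd_of_natAbs_lt_natAbs h2 (by simpa using hbig)
    omega

lemma rat_rel_mul (k : (ZMod m)ˣ) (i : ZMod m) :
    (S.rat hm).E (r i) (r ((k : ZMod m) * i)) := fun f _ h => (h k i).symm

end SRing

end Cfsg.Agent.DihedralB
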