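import Mathlib
import Cfsg.Agent.DihedralB.Idem
import Cfsg.Agent.DihedralB.Mult

/-!
# In a rational ring every class meets an element of order divisible by `q`
-/

set_option autoImplicit false
set_option maxHeartbeats 1000000

namespace Cfsg.Agent.DihedralB

open DihedralGroup

variable {m : ℕ} [NeZero m]

lemma powc_map {R R' : Type*} [CommRing R] [CommRing R'] (φ : R →+* R')
    (f : DihedralGroup m → R) (n : ℕ) (x : DihedralGroup m) :
    φ (powc f n x) = powc (fun y => φ (f y)) n x := by
  induction n generalizing x with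
  | zero => simp [powc, delta, apply_ite φ]
  | succ n ih => simp [powc, conv, map_sum, map_mul, ih]

/-- An element fixed by the Frobenius modulo `q` is congruent to a combination of idempotents. -/
lemma exists_idem_decomp {A : Type*} [CommRing A] {q N : ℕ} (hq : q.Prime) (hodd : Odd q)
    (hqA : (q : A) ^ N = 0) {x : A} (hfix : (q : A) ∣ x ^ q - x) :
    ∃ e : ℕ → A, (∀ κ, e κ * e κ = e κ) ∧
      (q : A) ∣ x - ∑ κ ∈ Finset.range q, (κ : A) * e κ := by
  have := Fact.mk hq
  obtain ⟨l, hl⟩ : ∃ l, q = l + 2 := ⟨q - 2, by have := hq.two_le; omega⟩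
  let a : ℕ → A := fun κ => 1 - (x - κ) ^ (q - 1)
  have hidem : ∀ κ : ℕ, (q : A) ∣ a κ * a κ - a κ := by
    intro κ
    have hu : (q : A) ∣ (x - κ) ^ q - (x - κ) := by
      obtain ⟨r', hr'⟩ := exists_add_pow_prime_eq hq x (-(κ : A))
      have hκ : (q : A) ∣ (κ : A) ^ q - κ := by
        have : ((q : ℕ) : ℤ) ∣ (κ : ℤ) ^ q - κ := by
          rw [← ZMod.intCast_zmod_eq_zero_iff_dvd]
          push_cast
          rw [ZMod.pow_card, sub_self]
        have := map_dvd (Int.castRingHom A) this
        simpa using this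
      rw [sub_eq_add_neg x, hr', hodd.neg_pow]
      rw [show x ^ q + -(κ : A) ^ q + (q : A) * x * -(κ : A) * r' - (x + -(κ : A)) =
        (x ^ q - x) - ((κ : A) ^ q - κ) + (q : A) * (x * -(κ : A) * r') by ring]
      exact dvd_add (dvd_sub hfix hκ) (dvd_mul_right _ _)
    have : a κ * a κ - a κ = (x - κ) ^ l * ((x - κ) ^ q - (x - κ)) := by
      simp only [a]
      have e1 : q - 1 = l + 1 := by omega
      have e2 : (x - (κ : A)) ^ q = (x - (κ : A)) ^ (l + 2) :=
        congrArg (fun n => (x - (κ : A)) ^ n) hl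
      rw [e1, e2]
      ring
    rw [this]
    exact hu.mul_left _
  have hpoly : (q : A) ∣ (∑ κ ∈ Finset.range q, (κ : A) * a κ) - x := by
    let P : Polynomial ℤ := (∑ κ ∈ Finset.range q, Polynomial.C (κ : ℤ) *
      (1 - (Polynomial.X - Polynomial.C (κ : ℤ)) ^ (q - 1))) - Polynomial.X
    have hP : Polynomial.C ((q : ℕ) : ℤ) ∣ P := by
      rw [Polynomial.C_dvd_iff_dvd_coeff]
      intro i
      rw [← ZMod.intCast_zmod_eq_zero_iff_dvd, ← eq_intCast (Int.castRingHom (ZMod q)),
        ← Polynomial.coeff_map]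
      suffices h : P.map (Int.castRingHom (ZMod q)) = 0 by rw [h]; simp
      apply Polynomial.eq_zero_of_natDegree_lt_card_of_eval_eq_zero _
        (f := fun z : ZMod q => z) Function.injective_id
      · intro z
        simp only [P, Polynomial.map_sub, Polynomial.map_sum, Polynomial.map_mul,
          Polynomial.map_C, Polynomial.map_one, Polynomial.map_pow, Polynomial.map_X,
          Polynomial.eval_sub, Polynomial.eval_finsetSum, Polynomial.eval_mul,
          Polynomial.eval_C, Polynomial.eval_one, Polynomial.eval_pow, Polynomial.eval_X]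
        rw [Finset.sum_eq_single z.val]
        · simp [zero_pow (by omega : q - 1 ≠ 0)]
        · intro b hb hne
          rw [Finset.mem_range] at hb
          have hz : z - ((b : ℤ) : ZMod q) ≠ 0 := by
            rw [sub_ne_zero, Int.cast_natCast]
            intro h
            exact hne (by rw [h, ZMod.val_natCast, Nat.mod_eq_of_lt hb])
          simp only [eq_intCast]
          rw [ZMod.pow_card_sub_one_eq_one hz, sub_self, mul_zero]
        · intro h
          exact absurd (Finset.mem_range.mpr (ZMod.val_lt z)) h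
      · rw [ZMod.card]
        refine lt_of_le_of_lt (Polynomial.natDegree_map_le) ?_
        refine lt_of_le_of_lt (b := q - 1) ?_ (by omega)
        refine (Polynomial.natDegree_sub_le _ _).trans (max_le ?_ ?_)
        · refine Polynomial.natDegree_sum_le_of_forall_le _ _ fun κ _ => ?_
          refine (Polynomial.natDegree_C_mul_le _ _).trans ?_
          refine (Polynomial.natDegree_sub_le _ _).trans (max_le ?_ ?_)
          · simp
          · refine Polynomial.natDegree_pow_le.trans ?_
            rw [Polynomial.natDegree_X_sub_C, mul_one]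
        · rw [Polynomial.natDegree_X]
          omega
    obtain ⟨P', hP'⟩ := hP
    refine ⟨P'.eval₂ (Int.castRingHom A) x, ?_⟩
    have := congrArg (Polynomial.eval₂ (Int.castRingHom A) x) hP'
    simp only [P, Polynomial.eval₂_sub, Polynomial.eval₂_finsetSum, Polynomial.eval₂_mul,
      Polynomial.eval₂_natCast, Polynomial.eval₂_one, Polynomial.eval₂_pow, Polynomial.eval₂_X,
      eq_intCast, Int.cast_natCast] at this
    exact this
  let e : ℕ → A := fun κ => a κ ^ (q ^ N)
  have he : ∀ κ, e κ * e κ = e κ := by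
    intro κ
    have := dvd_sub_pow_of_dvd_sub (hidem κ) N
    rw [pow_succ, hqA, zero_mul, zero_dvd_iff, sub_eq_zero, mul_pow] at this
    exact this
  have hea : ∀ κ, (q : A) ∣ e κ - a κ := by
    intro κ
    have : ∀ n, (q : A) ∣ a κ ^ (n + 1) - a κ := by
      intro n
      induction n with
      | zero => simp
      | succ n ih =>
        rw [show a κ ^ (n + 1 + 1) - a κ =
          (a κ ^ (n + 1) - a κ) * a κ + (a κ * a κ - a κ) by ring]
        exact dvd_add (ih.mul_right _) (hidem κ)
    obtain ⟨n, hn⟩ := Nat.exists_eq_succ_of_ne_zero (pow_ne_zero N hq.ne_zero)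
    simp only [e, hn]
    exact this n
  refine ⟨e, he, ?_⟩
  rw [show x - ∑ κ ∈ Finset.range q, (κ : A) * e κ =
      -((∑ κ ∈ Finset.range q, (κ : A) * a κ) - x) -
      ∑ κ ∈ Finset.range q, (κ : A) * (e κ - a κ) by
    simp only [mul_sub, Finset.sum_sub_distrib]; ring]
  exact dvd_sub (dvd_neg.mpr hpoly) (Finset.dvd_sum fun κ _ => (hea κ).mul_left _)

namespace SRing

variable (S : SRing m)

/-- Rationality of a Schur ring. -/
def Rational : Prop := ∀ (k : (ZMod m)ˣ) i, S.E (r i) (r ((k : ZMod m) * i))

variable {S} (hm : 2 ≤ m) (hrat : S.Rational) (Q : QData m) (hodd : Odd Q.q)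
include hrat

omit hodd in
lemma rel_c_mul {n : ℕ} (hn : ¬ Q.q ∣ n) {g : ZMod m} (hg : Q.W g) :
    S.E (r (g + Q.c)) (r (g + (n : ZMod m) * Q.c)) := by
  obtain ⟨k, hk⟩ := Q.exists_unit_q hn
  have h1 : Q.E0 * g = g := hg
  have h2 : Q.E0 * Q.c = 0 := Q.c_kill
  have := hrat k (g + Q.c)
  rwa [hk, show (Q.E0 + (1 - Q.E0) * (n : ZMod m)) * (g + Q.c) = g + (n : ZMod m) * Q.c by
    linear_combination (1 - (n : ZMod m)) * h1 + (1 - (n : ZMod m)) * h2] at this

include hm hodd

lemma pA_frob [Fact Q.q.Prime] {f : DihedralGroup m → ZMod Q.q} (hf : Inv S.E f) (g : ZMod m) :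
    (¬ Q.W g → pA (powc f Q.q) g = 0) ∧
      (Q.W g → pA (powc f Q.q) g = pA f g - pA f (g + Q.c)) := by
  classical
  rw [pA_powc_char hodd f (S.pA_neg hm hf)]
  have hsol : ∀ j0, (Q.q : ZMod m) * j0 = g →
      ∑ j, (if Q.q • j = g then pA f j else 0) =
        ∑ n ∈ Finset.range Q.q, pA f (j0 + (n : ZMod m) * Q.c) := by
    intro j0 hj0
    rw [← Finset.sum_filter]
    symm
    refine Finset.sum_bij (fun n _ => j0 + (n : ZMod m) * Q.c) ?_ ?_ ?_ ?_
    · intro n _
      simp only [Finset.mem_filter, Finset.mem_univ, true_and, nsmul_eq_mul]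
      linear_combination hj0 + (n : ZMod m) * Q.q_mul_c
    · intro a ha b hb hab
      rw [Finset.mem_range] at ha hb
      have hab' : (a : ZMod m) * Q.c = (b : ZMod m) * Q.c := add_left_cancel hab
      rcases le_total a b with h | h
      · have : ((b - a : ℕ) : ZMod m) * Q.c = 0 := by
          rw [Nat.cast_sub h, sub_mul, hab', sub_self]
        have := Nat.eq_zero_of_dvd_of_lt ((Q.natCast_mul_c _).mp this) (by omega)
        omega
      · have : ((a - b : ℕ) : ZMod m) * Q.c = 0 := by
          rw [Nat.cast_sub h, sub_mul, hab', sub_self]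
        have := Nat.eq_zero_of_dvd_of_lt ((Q.natCast_mul_c _).mp this) (by omega)
        omega
    · intro j hj
      simp only [Finset.mem_filter, Finset.mem_univ, true_and, nsmul_eq_mul] at hj
      obtain ⟨n, hn, he⟩ := Q.exists_eq_mul_c (z := j - j0) (by rw [mul_sub, hj, hj0, sub_self])
      exact ⟨n, Finset.mem_range.mpr hn, by rw [← he, add_sub_cancel]⟩
    · intro a _
      rfl
  constructor
  · intro hg
    by_cases hex : ∃ j0, (Q.q : ZMod m) * j0 = g
    · obtain ⟨j0, hj0⟩ := hex
      rw [hsol j0 hj0]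
      have hconst : ∀ n : ℕ, pA f (j0 + (n : ZMod m) * Q.c) = pA f j0 := by
        intro n
        induction n with
        | zero => simp
        | succ n ih =>
          obtain ⟨k, hk⟩ := Q.exists_unit_add_c (x := j0 + (n : ZMod m) * Q.c) (by
            rwa [mul_add, hj0, mul_left_comm, Q.q_mul_c, mul_zero, add_zero])
          rw [← ih]
          have := hf _ _ (hrat k (j0 + (n : ZMod m) * Q.c))
          rw [hk] at this
          simp only [pA, this]
          congr 2
          push_cast
          ring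
      simp [hconst]
    · refine Finset.sum_eq_zero fun j _ => if_neg fun h => hex ⟨j, ?_⟩
      rwa [← nsmul_eq_mul]
  · intro hg
    obtain ⟨k, hk⟩ := Q.exists_unit_inv
    rw [hsol _ (hk g hg)]
    have hkg : pA f ((k : ZMod m) * g) = pA f g := (hf _ _ (hrat k g)).symm
    have hW : Q.W ((k : ZMod m) * g) := Q.W_mul _ hg
    have hrest : ∀ n ∈ Finset.range (Q.q - 1),
        pA f ((k : ZMod m) * g + ((n + 1 : ℕ) : ZMod m) * Q.c) = pA f (g + Q.c) := by
      intro n hn
      rw [Finset.mem_range] at hn
      have hd : ¬ Q.q ∣ n + 1 := fun h => by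
        have := Nat.le_of_dvd (by omega) h
        omega
      have hg' : Q.E0 * g = g := hg
      have hc' : Q.E0 * Q.c = 0 := Q.c_kill
      have hW' : Q.E0 * ((k : ZMod m) * g) = (k : ZMod m) * g := hW
      have h2 := hf _ _ (rel_c_mul hrat Q hd hW)
      obtain ⟨k', hk'⟩ : ∃ k' : (ZMod m)ˣ, (k' : ZMod m) * (g + Q.c) = (k : ZMod m) * g + Q.c := by
        refine exists_unit_mul (a := Q.E0 * k + (1 - Q.E0))
          (b := Q.E0 * Q.q + (1 - Q.E0)) ?_ ?_
        · linear_combination ((k : ZMod m) - 1) * hg' + ((k : ZMod m) - 1) * hc'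
        · linear_combination ((Q.q : ZMod m) - 1) * hW' + ((Q.q : ZMod m) - 1) * hc' + hk g hg
      have h3 := hf _ _ (hrat k' (g + Q.c))
      rw [hk'] at h3
      simp only [pA]
      rw [h3, h2]
    obtain ⟨l, hl⟩ : ∃ l, Q.q = l + 1 := ⟨Q.q - 1, (Nat.sub_add_cancel Q.prime.one_le).symm⟩
    rw [show Finset.range Q.q = Finset.range (l + 1) by rw [hl], Finset.sum_range_succ',
      Finset.sum_congr rfl (fun n hn => hrest n (by rwa [hl, Nat.add_sub_cancel])),
      Finset.sum_const, Finset.card_range, Nat.cast_zero, zero_mul, add_zero, hkg]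
    have hlq : (l : ZMod Q.q) = -1 := by
      rw [eq_neg_iff_add_eq_zero, ← Nat.cast_one, ← Nat.cast_add, ← hl, ZMod.natCast_self]
    rw [nsmul_eq_mul, hlq]
    ring

/-- The Frobenius fixes the class functions supported on elements of order prime to `q`. -/
lemma powc_eq_of_supp [Fact Q.q.Prime] {f : DihedralGroup m → ZMod Q.q} (hf : Inv S.E f)
    (hs : Q.Supp f) : powc f Q.q = f := by
  apply eq_of_sub_eq_zero
  apply S.eq_zero_of_pA hm
  · intro a b hab
    simp only [Pi.sub_apply, S.powc_inv ZMod.intCast_surjective hf _ a b hab, hf a b hab]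
  intro i
  show pA (powc f Q.q) i - pA f i = 0
  by_cases hi : Q.W i
  · rw [((pA_frob hm hrat Q hodd hf i).2 hi), hs (i + Q.c) (fun h => ?_)]
    · ring
    · exact Q.not_W_add hi Q.prime.not_dvd_one (by simpa using h)
  · rw [((pA_frob hm hrat Q hodd hf i).1 hi), hs i hi, sub_zero]

/-- Class functions supported on elements of order prime to `q` form a ring modulo `q ^ N`. -/
lemma supp_conv_zmod {N : ℕ} (hN : N ≠ 0) {f g : DihedralGroup m → ZMod (Q.q ^ N)}
    (hf : Inv S.E f) (hg : Inv S.E g) (hsf : Q.Supp f) (hsg : Q.Supp g) :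
    Q.Supp (conv f g) := by
  classical
  haveI := Fact.mk Q.prime
  have hR : Function.Surjective (Int.cast : ℤ → ZMod (Q.q ^ N)) := ZMod.intCast_surjective
  letI := S.subCommRing hm hR
  haveI : NeZero (Q.q ^ N) := ⟨pow_ne_zero _ Q.prime.ne_zero⟩
  have hq0 : (Q.q : ZMod (Q.q ^ N)) ^ N = 0 := by rw [← Nat.cast_pow, ZMod.natCast_self]
  have hqS : ((Q.q : ℕ) : S.sub hR) ^ N = 0 := by
    have hn : ∀ n : ℕ, fn ((n : ℕ) : S.sub hR) =
        fun x => (n : ZMod (Q.q ^ N)) * delta x := by
      intro n
      induction n with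
      | zero => simp [fn_zero]; rfl
      | succ n ih => rw [Nat.cast_succ, fn_add, ih, fn_one]; funext x; simp; ring
    apply fn_injective
    rw [← Nat.cast_pow, hn, fn_zero, Nat.cast_pow]
    funext x
    simp [hq0]
  set φ : ZMod (Q.q ^ N) →+* ZMod Q.q := ZMod.castHom (dvd_pow_self _ hN) _
  have hdiv : ∀ x : S.sub hR, (∀ z, φ (fn x z) = 0) →
      ∃ y : S.sub hR, x = (Q.q : S.sub hR) * y ∧ (Q.Supp (fn x) → Q.Supp (fn y)) := by
    intro x hx
    have hy : Inv S.E (fun z => (((fn x z).val / Q.q : ℕ) : ZMod (Q.q ^ N))) :=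
      fun a b hab => by simp only [fn_inv x a b hab]
    refine ⟨mkc hR _ hy, ?_, ?_⟩
    · have hn : ∀ (n : ℕ) (y : S.sub hR), fn ((n : S.sub hR) * y) =
          fun z => (n : ZMod (Q.q ^ N)) * fn y z := by
        intro n y
        induction n with
        | zero => simp [fn_zero]; rfl
        | succ n ih => rw [Nat.cast_succ, add_mul, one_mul, fn_add, ih]; funext z; simp; ring
      apply fn_injective
      rw [hn, fn_mkc]
      funext z
      have h0 := hx z
      rw [← ZMod.natCast_zmod_val (fn x z), map_natCast, ZMod.natCast_eq_zero_iff] at h0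
      rw [← Nat.cast_mul, Nat.mul_div_cancel' h0, ZMod.natCast_zmod_val]
    · intro hs i hi
      simp only [pA, fn_mkc]
      rw [show fn x (r i) = 0 from hs i hi]
      simp
  let Ids : AddSubgroup (S.sub hR) := AddSubgroup.closure {e | e * e = e}
  have hIds : ∀ x ∈ Ids, Q.Supp (fn x) := by
    intro x hx
    induction hx using AddSubgroup.closure_induction with
    | mem e he =>
      refine supp_of_idem Q hodd hq0 _ (S.pA_neg hm (fn_inv e)) ?_
      rw [← fn_mul, show e * e = e from he]
    | zero => intro i _; rw [fn_zero]; rfl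
    | add a b _ _ ha hb =>
      intro i hi
      rw [fn_add]
      show pA (fn a) i + pA (fn b) i = 0
      rw [ha i hi, hb i hi, add_zero]
    | neg a _ ha =>
      intro i hi
      rw [fn_neg]
      show -pA (fn a) i = 0
      rw [ha i hi, neg_zero]
  have step : ∀ x : S.sub hR, Q.Supp (fn x) →
      ∃ s ∈ Ids, ∃ y : S.sub hR, Q.Supp (fn y) ∧ x = s + (Q.q : S.sub hR) * y := by
    intro x hx
    have hfix : ((Q.q : ℕ) : S.sub hR) ∣ x ^ Q.q - x := by
      obtain ⟨y, hy, -⟩ := hdiv (x ^ Q.q - x) (fun z => by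
        have hh : powc (fun w => φ (fn x w)) Q.q = fun w => φ (fn x w) :=
          powc_eq_of_supp hm hrat Q hodd (fun a b hab => by simp only [fn_inv x a b hab])
            (fun i hi => by
              show φ (pA (fn x) i) = 0
              rw [hx i hi, map_zero])
        rw [sub_eq_add_neg, fn_add, fn_neg, fn_pow, Pi.add_apply, Pi.neg_apply, map_add, map_neg,
          powc_map, hh, add_neg_cancel])
      exact ⟨y, hy⟩
    obtain ⟨e, he, hdvd⟩ := exists_idem_decomp Q.prime hodd hqS hfix
    set s := ∑ κ ∈ Finset.range Q.q, (κ : S.sub hR) * e κ with hs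
    have hsI : s ∈ Ids := by
      refine sum_mem fun κ _ => ?_
      rw [← nsmul_eq_mul]
      exact nsmul_mem (AddSubgroup.subset_closure (show e κ ∈ {e | e * e = e} from he κ)) κ
    obtain ⟨y, hy, hyS⟩ := hdiv (x - s) (fun z => by
      obtain ⟨w, hw⟩ := hdvd
      have hn : ∀ (n : ℕ) (y : S.sub hR), fn ((n : S.sub hR) * y) =
          fun z => (n : ZMod (Q.q ^ N)) * fn y z := by
        intro n y
        induction n with
        | zero => simp [fn_zero]; rfl
        | succ n ih => rw [Nat.cast_succ, add_mul, one_mul, fn_add, ih]; funext z; simp; ring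
      rw [hw, hn]
      simp [ZMod.natCast_self])
    refine ⟨s, hsI, y, hyS ?_, by rw [← hy]; ring⟩
    intro i hi
    rw [sub_eq_add_neg, fn_add, fn_neg]
    show pA (fn x) i + -pA (fn s) i = 0
    rw [hx i hi, hIds s hsI i hi, neg_zero, add_zero]
  have hall : ∀ x : S.sub hR, Q.Supp (fn x) → x ∈ Ids := by
    intro x hx
    have : ∀ j, ∃ s ∈ Ids, ∃ y : S.sub hR, Q.Supp (fn y) ∧
        x = s + (Q.q : S.sub hR) ^ j * y := by
      intro j
      induction j with
      | zero => exact ⟨0, zero_mem _, x, hx, by simp⟩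
      | succ j ih =>
        obtain ⟨s, hs, y, hy, he⟩ := ih
        obtain ⟨s', hs', y', hy', he'⟩ := step y hy
        refine ⟨s + (Q.q ^ j) • s', add_mem hs (nsmul_mem hs' _), y', hy', ?_⟩
        rw [he, he', nsmul_eq_mul]
        push_cast
        ring
    obtain ⟨s, hs, y, -, he⟩ := this N
    rw [he, hqS, zero_mul, add_zero]
    exact hs
  have hmul : ∀ x ∈ Ids, ∀ y ∈ Ids, x * y ∈ Ids := by
    intro x hx y hy
    induction hx, hy using AddSubgroup.closure_induction₂ with
    | mem x y hx hy =>
      refine AddSubgroup.subset_closure ?_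
      show x * y * (x * y) = x * y
      rw [mul_mul_mul_comm, show x * x = x from hx, show y * y = y from hy]
    | zero_left y hy => simp
    | zero_right x hx => simp
    | add_left x y z _ _ _ h1 h2 => rw [add_mul]; exact add_mem h1 h2
    | add_right x y z _ _ _ h1 h2 => rw [mul_add]; exact add_mem h1 h2
    | neg_left x y _ _ h => rw [neg_mul]; exact neg_mem h
    | neg_right x y _ _ h => rw [mul_neg]; exact neg_mem h
  have := hIds _ (hmul _ (hall (mkc hR f hf) (by rwa [fn_mkc])) _
    (hall (mkc hR g hg) (by rwa [fn_mkc])))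
  rwa [fn_mul, fn_mkc, fn_mkc] at this

lemma supp_conv {f g : DihedralGroup m → ℤ} (hf : Inv S.E f) (hg : Inv S.E g)
    (hsf : Q.Supp f) (hsg : Q.Supp g) : Q.Supp (conv f g) := by
  intro i hi
  set N := (conv f g (r i)).natAbs + 1
  have hlt : (conv f g (r i)).natAbs < Q.q ^ N :=
    lt_of_lt_of_le (Nat.lt_succ_self _) (Nat.le_of_lt (Nat.lt_pow_self Q.prime.one_lt))
  have := supp_conv_zmod hm hrat Q hodd (N := N) (by omega)
    (f := fun x => (f x : ZMod (Q.q ^ N))) (g := fun x => (g x : ZMod (Q.q ^ N)))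
    (fun a b h => by simp only [hf a b h]) (fun a b h => by simp only [hg a b h])
    (fun j hj => by show ((pA f j : ℤ) : ZMod (Q.q ^ N)) = 0; rw [hsf j hj, Int.cast_zero])
    (fun j hj => by show ((pA g j : ℤ) : ZMod (Q.q ^ N)) = 0; rw [hsg j hj, Int.cast_zero]) i hi
  have h' : ((conv f g (r i) : ℤ) : ZMod (Q.q ^ N)) = 0 := by
    rw [← this]
    simp [pA, conv, Int.cast_sum, Int.cast_mul]
  rw [ZMod.intCast_zmod_eq_zero_iff_dvd] at h'
  exact Int.eq_zero_of_dvd_of_natAbs_lt_natAbs h' (by simpa [pA] using hlt)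

/-- Every nontrivial class contains a rotation of order divisible by `q`. -/
lemma exists_high {x : DihedralGroup m} (hx : x ≠ 1) : ∃ i, ¬ Q.W i ∧ S.E x (r i) := by
  classical
  by_contra hne
  push Not at hne
  have supp_ind : ∀ g : DihedralGroup m, (∀ i, S.E g (r i) → Q.W i) →
      Q.Supp (S.ind g : DihedralGroup m → ℤ) := by
    intro g hg i hi
    simp only [pA, ind]
    rw [if_neg fun h => hi (hg i h)]
  let K : Subgroup (DihedralGroup m) :=
    { carrier := {g | ∀ i, S.E g (r i) → Q.W i}
      one_mem' := fun i h => by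
        have := S.one_class _ h
        rw [r_eq_one] at this
        subst this
        exact Q.W_zero
      mul_mem' := by
        intro a b ha hb i hi
        by_contra hW
        have h0 := supp_conv hm hrat Q hodd (S.ind_inv a) (S.ind_inv b) (supp_ind a ha)
          (supp_ind b hb) i hW
        obtain ⟨a', b', ha', hb', he⟩ := S.mul_closed hi
        have hpos : (0 : ℤ) < conv (S.ind a) (S.ind b) (r i) := by
          refine Finset.sum_pos' (fun c _ => ?_) ⟨a', Finset.mem_univ _, ?_⟩
          · simp only [ind]; split_ifs <;> simp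
          · simp [ind, ha', ← he, hb']
        rw [show conv (S.ind a) (S.ind b) (r i) = pA (conv (S.ind a) (S.ind b)) i from rfl,
          h0] at hpos
        exact lt_irrefl _ hpos
      inv_mem' := by
        intro a ha i hi
        exact ha i (S.equiv.trans (S.rel_inv hm a) hi) }
  rcases S.prim K (fun a b hab ha i hi => ha i (S.equiv.trans hab hi)) with hK | hK
  · have : x ∈ K := fun i hi => by
      by_contra h
      exact hne i h hi
    rw [hK, Subgroup.mem_bot] at this
    exact hx this
  · exact Q.not_W_c ((show r Q.c ∈ K from hK ▸ Subgroup.mem_top _) Q.c (S.equiv.refl _))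

/-- Translation by `c` preserves the classes of the rotations outside the subgroup of order `q`. -/
lemma rel_add_c {x : ZMod m} (hx : (Q.q : ZMod m) * x ≠ 0) : S.E (r x) (r (x + Q.c)) := by
  classical
  haveI := Fact.mk Q.prime
  by_cases hW : Q.W ((Q.q : ZMod m) * x)
  · set w := Q.E0 * x
    have hw : Q.W w := Q.W_E0 x
    have hw0 : w ≠ 0 := by
      intro h
      apply hx
      rw [← hW, mul_left_comm, show Q.E0 * x = 0 from h, mul_zero]
    obtain ⟨n, hn, hxn⟩ := Q.exists_eq_mul_c (z := x - w) (by
      rw [mul_sub, show w = Q.E0 * x from rfl, mul_left_comm, hW, sub_self])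
    have hwc : S.E (r w) (r (w + Q.c)) := by
      set f : DihedralGroup m → ZMod Q.q := S.ind (r w)
      have hf : Inv S.E f := S.ind_inv _
      have hp := (pA_frob hm hrat Q hodd hf w).2 hw
      obtain ⟨i, hi, hwi⟩ := exists_high hm hrat Q hodd (x := r w) (by rwa [Ne, r_eq_one])
      have h0 : pA (powc f Q.q) w = 0 := by
        rw [show pA (powc f Q.q) w = powc f Q.q (r w) from rfl,
          S.powc_inv ZMod.intCast_surjective hf _ _ _ hwi]
        exact (pA_frob hm hrat Q hodd hf i).1 hi
      rw [h0] at hp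
      by_contra hne
      simp [f, pA, ind, S.equiv.refl, hne] at hp
    have hall : ∀ j : ℕ, S.E (r w) (r (w + (j : ZMod m) * Q.c)) := by
      intro j
      by_cases hj : Q.q ∣ j
      · rw [(Q.natCast_mul_c j).mpr hj, add_zero]
        exact S.equiv.refl _
      · exact S.equiv.trans hwc (rel_c_mul hrat Q hj hw)
    have h1 := hall n
    have h2 := hall (n + 1)
    rw [← hxn] at h1
    push_cast at h2
    rw [add_mul, one_mul, ← add_assoc, ← hxn] at h2
    rw [add_sub_cancel] at h1 h2
    exact S.equiv.trans (S.equiv.symm h1) h2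
  · obtain ⟨k, hk⟩ := Q.exists_unit_add_c hW
    have := hrat k x
    rwa [hk] at this

end SRing

end Cfsg.Agent.DihedralB
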