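import Mathlib
import Cfsg.Agent.DihedralB.Free

/-!
# A primitive rational Schur ring over a dihedral group is trivial
-/

set_option autoImplicit false
set_option maxHeartbeats 1000000

namespace Cfsg.Agent.DihedralB

open DihedralGroup

variable {m : ℕ} [NeZero m]

lemma eight_case (B : ZMod 8 → Bool) (hB : ∀ x, B (x + 4) = !B x) :
    ∑ l, (if B l && B (l - 1) then 1 else 0 : ℕ) ≠ ∑ l, (if B l && B (l - 5) then 1 else 0 : ℕ) := by
  have h4 : B 4 = !B 0 := hB 0
  have h5 : B 5 = !B 1 := hB 1
  have h6 : B 6 = !B 2 := hB 2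
  have h7 : B 7 = !B 3 := hB 3
  have e1 : ∀ g : ZMod 8 → ℕ, ∑ l, g l = g 0 + g 1 + g 2 + g 3 + g 4 + g 5 + g 6 + g 7 :=
    fun g => Fin.sum_univ_eight g
  rw [e1, e1]
  simp only [show (0 : ZMod 8) - 1 = 7 by decide, show (1 : ZMod 8) - 1 = 0 by decide,
    show (2 : ZMod 8) - 1 = 1 by decide, show (3 : ZMod 8) - 1 = 2 by decide,
    show (4 : ZMod 8) - 1 = 3 by decide, show (5 : ZMod 8) - 1 = 4 by decide,
    show (6 : ZMod 8) - 1 = 5 by decide, show (7 : ZMod 8) - 1 = 6 by decide,
    show (0 : ZMod 8) - 5 = 3 by decide, show (1 : ZMod 8) - 5 = 4 by decide,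
    show (2 : ZMod 8) - 5 = 5 by decide, show (3 : ZMod 8) - 5 = 6 by decide,
    show (4 : ZMod 8) - 5 = 7 by decide, show (5 : ZMod 8) - 5 = 0 by decide,
    show (6 : ZMod 8) - 5 = 1 by decide, show (7 : ZMod 8) - 5 = 2 by decide, h4, h5, h6, h7]
  rcases B 0 <;> rcases B 1 <;> rcases B 2 <;> rcases B 3 <;> simp

namespace SRing

variable {S : SRing m}

/-- The data of a class avoiding the elements of order `q`. -/
structure Avoid (S : SRing m) (Q : QData m) where
  u : ZMod m
  hu : ¬ S.E (r u) (r Q.c)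
  hu0 : u ≠ 0
  coset : ∀ i, (Q.q : ZMod m) * i ≠ 0 → S.E (r i) (r (i + Q.c))
  cmul : ∀ n : ℕ, ¬ Q.q ∣ n → S.E (r Q.c) (r ((n : ZMod m) * Q.c))

namespace Avoid

variable {Q : QData m} (T : Avoid S Q)

/-- The indicator of the class. -/
noncomputable def f : DihedralGroup m → ℤ := S.ind (r T.u)

lemma f_inv : Inv S.E T.f := S.ind_inv _

lemma f_01 (x : DihedralGroup m) : T.f x = 0 ∨ T.f x = 1 := by
  simp only [f, ind]
  split_ifs <;> simp

lemma A_01 (j : ZMod m) : pA T.f j = 0 ∨ pA T.f j = 1 := T.f_01 _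

lemma B_01 (j : ZMod m) : pB T.f j = 0 ∨ pB T.f j = 1 := T.f_01 _

lemma A_u : pA T.f T.u = 1 := S.ind_self _

lemma f_one : T.f 1 = 0 := by
  simp only [f, ind]
  rw [if_neg]
  intro h
  exact T.hu0 ((r_eq_one _).mp (S.one_class _ (S.equiv.symm h)))

lemma A_mul_c (n : ℕ) : pA T.f ((n : ZMod m) * Q.c) = 0 := by
  by_cases hn : Q.q ∣ n
  · rw [(Q.natCast_mul_c n).mpr hn]
    exact T.f_one
  · simp only [pA, f, ind]
    rw [if_neg]
    exact fun h => T.hu (S.equiv.trans h (S.equiv.symm (T.cmul n hn)))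

lemma A_add_c (i : ZMod m) : pA T.f (i + Q.c) = pA T.f i := by
  by_cases hi : (Q.q : ZMod m) * i = 0
  · obtain ⟨n, -, rfl⟩ := Q.exists_eq_mul_c hi
    rw [show (n : ZMod m) * Q.c + Q.c = ((n + 1 : ℕ) : ZMod m) * Q.c by push_cast; ring,
      T.A_mul_c, T.A_mul_c]
  · exact (T.f_inv _ _ (T.coset i hi)).symm

lemma A_add_mul_c (i : ZMod m) (n : ℕ) : pA T.f (i + (n : ZMod m) * Q.c) = pA T.f i := by
  induction n with
  | zero => simp
  | succ n ih => rw [Nat.cast_succ, add_mul, one_mul, ← add_assoc, T.A_add_c, ih]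

lemma A_sub_c (i : ZMod m) : pA T.f (i - Q.c) = pA T.f i := by
  conv_rhs => rw [← sub_add_cancel i Q.c, T.A_add_c]

variable (hm : 2 ≤ m)
include hm

lemma A_neg (i : ZMod m) : pA T.f (-i) = pA T.f i := S.pA_neg hm T.f_inv i

/-- The square of the class is a combination of the identity and the whole group. -/
lemma square : ∃ R l : ℤ, R ≠ 0 ∧ conv T.f T.f = fun x => R * delta x + l := by
  set h := conv T.f T.f with hh
  have hinv : Inv S.E h := S.conv_inv _ _ T.f_inv T.f_inv
  set R := h 1 - h (r Q.c)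
  set X : DihedralGroup m → ℤ := fun x => h x - R * delta x
  have hX : Inv S.E X := fun a b hab => by
    simp only [X, hinv a b hab, (S.delta_inv (R := ℤ)) a b hab]
  have hXU : ∀ i, X (r (i + Q.c)) = X (r i) := by
    intro i
    by_cases hi : (Q.q : ZMod m) * i = 0
    · obtain ⟨n, -, rfl⟩ := Q.exists_eq_mul_c hi
      have hval : ∀ k : ℕ, X (r ((k : ZMod m) * Q.c)) = h (r Q.c) := by
        intro k
        by_cases hk : Q.q ∣ k
        · rw [(Q.natCast_mul_c k).mpr hk]
          simp [X, R, delta, r_eq_one]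
        · have : (k : ZMod m) * Q.c ≠ 0 := fun h0 => hk ((Q.natCast_mul_c k).mp h0)
          simp [X, delta, r_eq_one, this, hinv _ _ (T.cmul k hk)]
      rw [show (n : ZMod m) * Q.c + Q.c = ((n + 1 : ℕ) : ZMod m) * Q.c by push_cast; ring,
        hval, hval]
    · exact (hX _ _ (T.coset i hi)).symm
  have hsr : ∀ i, h (sr (-(i + Q.c))) = h (sr (-i)) := by
    intro i
    rw [hh, conv_sr, conv_sr]
    congr 1
    · refine Fintype.sum_equiv (Equiv.subRight Q.c) _ _ fun j => ?_
      simp only [Equiv.subRight_apply, T.A_sub_c]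
      congr 2
      ring
    · refine Finset.sum_congr rfl fun j _ => ?_
      rw [show j - (i + Q.c) = j - i - Q.c by ring, T.A_sub_c]
  have htr : ∀ y, X (r Q.c * y) = X y := by
    intro y
    cases y with
    | r i => rw [r_mul_r, add_comm]; exact hXU i
    | sr i =>
      rw [r_mul_sr]
      simp only [X, delta, sr_eq_one, if_false, mul_zero, sub_zero]
      have := hsr (-i)
      rwa [show -(-i + Q.c) = i - Q.c by ring, neg_neg] at this
  have hconst := S.const_of_translation hm hX
    (show (r Q.c : DihedralGroup m) ≠ 1 by rw [Ne, r_eq_one]; exact Q.c_ne_zero) htr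
  have hform : h = fun x => R * delta x + h (r Q.c) := by
    funext x
    have := hconst x
    simp only [X, R, delta, if_true] at this
    simp only [R, delta]
    linarith
  refine ⟨R, h (r Q.c), ?_, hform⟩
  intro hR0
  have heq : h 1 = h (r Q.c) := sub_eq_zero.mp hR0
  have hB : ∑ j, (pB T.f j - pB T.f (j - Q.c)) ^ 2 = 0 := by
    have e1 : h (r 0) = h (r Q.c) := heq
    rw [hh, conv_r, conv_r] at e1
    have eA : ∑ j, pA T.f j * pA T.f (0 - j) = ∑ j, pA T.f j * pA T.f (Q.c - j) := by
      refine Finset.sum_congr rfl fun j _ => ?_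
      rw [show Q.c - j = 0 - j + Q.c by ring, T.A_add_c]
    have eB : ∑ j, pB T.f (j - Q.c) * pB T.f (j - Q.c) = ∑ j, pB T.f j * pB T.f j :=
      Equiv.sum_comp (Equiv.subRight Q.c) (fun j => pB T.f j * pB T.f j)
    simp only [sub_zero] at e1
    have : ∀ j, (pB T.f j - pB T.f (j - Q.c)) ^ 2 = pB T.f j * pB T.f j +
        pB T.f (j - Q.c) * pB T.f (j - Q.c) - 2 * (pB T.f j * pB T.f (j - Q.c)) := fun j => by ring
    simp only [this, Finset.sum_sub_distrib, Finset.sum_add_distrib, ← Finset.mul_sum, eB]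
    linarith
  rw [Finset.sum_eq_zero_iff_of_nonneg fun j _ => sq_nonneg _] at hB
  have htr' : ∀ y, T.f (r Q.c * y) = T.f y := by
    intro y
    cases y with
    | r i => rw [r_mul_r, add_comm]; exact T.A_add_c i
    | sr i =>
      rw [r_mul_sr]
      have := hB (-i + Q.c) (Finset.mem_univ _)
      simp only [pB] at this
      rw [sq_eq_zero_iff, sub_eq_zero, show -(-i + Q.c) = i - Q.c by ring,
        show -(-i + Q.c - Q.c) = i by ring] at this
      exact this
  have := S.const_of_translation hm T.f_inv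
    (show (r Q.c : DihedralGroup m) ≠ 1 by rw [Ne, r_eq_one]; exact Q.c_ne_zero) htr' (r T.u)
  rw [T.f_one] at this
  exact absurd (T.A_u.symm.trans this) one_ne_zero

/-- The numerical consequences. -/
lemma numerics {R l : ℤ} (h : conv T.f T.f = fun x => R * delta x + l) :
    let a := ∑ j, pA T.f j
    let b := ∑ j, pB T.f j
    let n := fun i => ∑ t ∈ Finset.range Q.q, pB T.f (i - (t : ZMod m) * Q.c)
    (a - b) ^ 2 = R ∧ R ≤ b ∧ R ≤ m - b ∧
      (Q.q : ℤ) * a * (m - a) ≤ ((m : ℤ) - Q.q) * R ∧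
      ((Q.q : ℤ) * a * (m - a) = ((m : ℤ) - Q.q) * R →
        ∀ i, (m : ℤ) * n i = Q.q * b) ∧
      R = b - ∑ j, pB T.f j * pB T.f (j - Q.c) := by
  intro a b n
  have hA01 : ∀ j, pA T.f j * pA T.f j = pA T.f j := fun j => by
    rcases T.A_01 j with h0 | h0 <;> simp [h0]
  have hB01 : ∀ j, pB T.f j * pB T.f j = pB T.f j := fun j => by
    rcases T.B_01 j with h0 | h0 <;> simp [h0]
  have hA : ∀ t : ℕ, ∑ j, pA T.f j * pA T.f ((t : ZMod m) * Q.c - j) = a := by
    intro t
    refine Finset.sum_congr rfl fun j _ => ?_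
    rw [show (t : ZMod m) * Q.c - j = -j + (t : ZMod m) * Q.c by ring, T.A_add_mul_c,
      T.A_neg hm, hA01]
  have hU : ∀ i, (R * (if i = 0 then 1 else 0) + l : ℤ) =
      ∑ j, pA T.f j * pA T.f (i - j) + ∑ j, pB T.f j * pB T.f (j - i) := by
    intro i
    rw [← conv_r, h]
    simp [delta, r_eq_one]
  have hS : ∀ i, (l : ℤ) =
      ∑ j, pA T.f j * pB T.f (i - j) + ∑ j, pB T.f j * pA T.f (j - i) := by
    intro i
    rw [← conv_sr, h]
    simp [delta, sr_eq_one]
  -- the value at zero and at `c`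
  have h0 : R + l = a + b := by
    have := hU 0
    simp only [if_true, mul_one, sub_zero, hB01] at this
    rw [this, ← hA 0]
    simp only [Nat.cast_zero, zero_mul]
    rfl
  have hc : l = a + ∑ j, pB T.f j * pB T.f (j - Q.c) := by
    have := hU Q.c
    simp only [Q.c_ne_zero, if_false, mul_zero, zero_add] at this
    rw [this, ← hA 1]
    simp only [Nat.cast_one, one_mul]
  have hRdef : R = b - ∑ j, pB T.f j * pB T.f (j - Q.c) := by linarith
  -- the sums
  have hsumS : (m : ℤ) * l = 2 * (a * b) := by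
    have := Finset.sum_congr rfl (fun i (_ : i ∈ (Finset.univ : Finset (ZMod m))) => hS i)
    rw [Finset.sum_const, Finset.card_univ, ZMod.card, nsmul_eq_mul, Finset.sum_add_distrib,
      Finset.sum_comm, Finset.sum_comm (f := fun i j => pB T.f j * pA T.f (j - i))] at this
    simp only [← Finset.mul_sum] at this
    have e1 : ∀ j : ZMod m, ∑ i, pB T.f (i - j) = b := fun j =>
      Equiv.sum_comp (Equiv.subRight j) (pB T.f)
    have e2 : ∀ j : ZMod m, ∑ i, pA T.f (j - i) = a := fun j =>
      Equiv.sum_comp (Equiv.subLeft j) (pA T.f)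
    simp only [e1, e2, ← Finset.sum_mul] at this
    rw [this]
    ring
  have hsumAll : (a + b) ^ 2 = R + 2 * m * l := by
    have := sum_conv T.f T.f
    rw [h, Finset.sum_add_distrib, ← Finset.mul_sum, Finset.sum_const, Finset.card_univ,
      DihedralGroup.card, nsmul_eq_mul, sum_dihedral T.f] at this
    simp only [delta, Finset.sum_ite_eq', Finset.mem_univ, if_true] at this
    push_cast at this
    simp only [a, b, pA, pB]
    linarith
  have hsq : (a - b) ^ 2 = R := by linear_combination hsumAll + 2 * hsumS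
  have hab : a ^ 2 + b ^ 2 = R + m * l := by linear_combination hsumAll + hsumS
  -- bounds
  have hRb : R ≤ b := by
    have : 0 ≤ ∑ j, pB T.f j * pB T.f (j - Q.c) := Finset.sum_nonneg fun j _ => by
      rcases T.B_01 j with h1 | h1 <;>
        rcases T.B_01 (j - Q.c) with h2 | h2 <;> simp [h1, h2]
    linarith
  have hRmb : R ≤ m - b := by
    have h1 : 0 ≤ ∑ j, (1 - pB T.f j) * (1 - pB T.f (j - Q.c)) := Finset.sum_nonneg fun j _ => by
      rcases T.B_01 j with h1 | h1 <;>
        rcases T.B_01 (j - Q.c) with h2 | h2 <;> simp [h1, h2]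
    have e : ∀ j, (1 - pB T.f j) * (1 - pB T.f (j - Q.c)) =
        1 - pB T.f j - pB T.f (j - Q.c) + pB T.f j * pB T.f (j - Q.c) := fun j => by ring
    have e2 : ∑ j, pB T.f (j - Q.c) = b := Equiv.sum_comp (Equiv.subRight Q.c) (pB T.f)
    simp only [e, Finset.sum_add_distrib, Finset.sum_sub_distrib, e2, Finset.sum_const,
      Finset.card_univ, ZMod.card, nsmul_eq_mul, mul_one] at h1
    linarith
  -- the coset sums
  have hcoset : ∑ j, pB T.f j * n j = Q.q * l + R - Q.q * a := by
    have hn : ∀ t ∈ Finset.range Q.q, ∑ j, pB T.f j * pB T.f (j - (t : ZMod m) * Q.c) =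
        R * (if t = 0 then 1 else 0) + l - a := by
      intro t ht
      have := hU ((t : ZMod m) * Q.c)
      rw [hA] at this
      have hiff : ((t : ZMod m) * Q.c = 0) ↔ t = 0 := by
        rw [Q.natCast_mul_c]
        refine ⟨fun hd => Nat.eq_zero_of_dvd_of_lt hd (Finset.mem_range.mp ht), fun h0 => ?_⟩
        rw [h0]
        exact dvd_zero _
      by_cases ht0 : t = 0
      · subst ht0
        simp only [Nat.cast_zero, zero_mul, if_true, mul_one] at this ⊢
        linarith
      · simp only [ht0, mt hiff.mp ht0, if_false, mul_zero] at this ⊢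
        linarith
    simp only [n, Finset.mul_sum]
    rw [Finset.sum_comm, Finset.sum_congr rfl hn, Finset.sum_sub_distrib, Finset.sum_add_distrib,
      ← Finset.mul_sum, Finset.sum_ite_eq', if_pos (Finset.mem_range.mpr Q.prime.pos),
      Finset.sum_const, Finset.sum_const, Finset.card_range, nsmul_eq_mul, nsmul_eq_mul]
    ring
  have hnsum : ∑ i, n i = Q.q * b := by
    simp only [n]
    rw [Finset.sum_comm]
    have e : ∀ t : ℕ, ∑ i, pB T.f (i - (t : ZMod m) * Q.c) = b := fun t =>
      Equiv.sum_comp (Equiv.subRight ((t : ZMod m) * Q.c)) (pB T.f)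
    simp [e]
  have hn_per : ∀ i, ∀ t : ℕ, n (i + (t : ZMod m) * Q.c) = n i := by
    have h1 : ∀ i, n (i + Q.c) = n i := by
      intro i
      obtain ⟨k, hk⟩ : ∃ k, Q.q = k + 1 := ⟨Q.q - 1, (Nat.sub_add_cancel Q.prime.one_le).symm⟩
      have hkc : ((k + 1 : ℕ) : ZMod m) * Q.c = 0 := by rw [← hk]; exact Q.q_mul_c
      simp only [n, hk]
      rw [Finset.sum_range_succ', Finset.sum_range_succ]
      congr 1
      · refine Finset.sum_congr rfl fun t _ => ?_
        congr 1
        push_cast
        ring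
      · congr 1
        push_cast at hkc ⊢
        linear_combination hkc
    intro i t
    induction t with
    | zero => simp
    | succ t ih => rw [Nat.cast_succ, add_mul, one_mul, ← add_assoc, h1, ih]
  have hnsq : ∑ i, n i * n i = Q.q * ∑ j, pB T.f j * n j := by
    have : ∀ t ∈ Finset.range Q.q,
        ∑ i, pB T.f (i - (t : ZMod m) * Q.c) * n i = ∑ j, pB T.f j * n j := by
      intro t _
      refine Fintype.sum_equiv (Equiv.subRight ((t : ZMod m) * Q.c)) _ _ fun i => ?_
      simp only [Equiv.subRight_apply]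
      conv_lhs => rw [← sub_add_cancel i ((t : ZMod m) * Q.c), hn_per]
      rw [sub_add_cancel]
    calc ∑ i, n i * n i
        = ∑ i, ∑ t ∈ Finset.range Q.q, pB T.f (i - (t : ZMod m) * Q.c) * n i := by
          refine Finset.sum_congr rfl fun i _ => ?_
          rw [← Finset.sum_mul]
      _ = _ := by
          rw [Finset.sum_comm, Finset.sum_congr rfl this, Finset.sum_const, Finset.card_range,
            nsmul_eq_mul]
  have hvar : ∑ i, ((m : ℤ) * n i - Q.q * b) ^ 2 =
      Q.q * ((m : ℤ) * (((m : ℤ) - Q.q) * R - (Q.q : ℤ) * a * (m - a))) := by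
    have e : ∀ i, ((m : ℤ) * n i - Q.q * b) ^ 2 =
        (m : ℤ) ^ 2 * (n i * n i) - 2 * m * Q.q * b * n i + ((Q.q : ℤ) * b) ^ 2 := fun i => by ring
    simp only [e, Finset.sum_add_distrib, Finset.sum_sub_distrib, ← Finset.mul_sum, hnsum, hnsq,
      hcoset, Finset.sum_const, Finset.card_univ, ZMod.card, nsmul_eq_mul]
    linear_combination -((m : ℤ) * (Q.q : ℤ) ^ 2) * hab
  have hqpos : (0 : ℤ) < Q.q := by exact_mod_cast Q.prime.pos
  have hmpos : (0 : ℤ) < m := by exact_mod_cast (show 0 < m by omega)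
  have hnn : 0 ≤ Q.q * ((m : ℤ) * (((m : ℤ) - Q.q) * R - (Q.q : ℤ) * a * (m - a))) := by
    rw [← hvar]
    exact Finset.sum_nonneg fun i _ => sq_nonneg _
  refine ⟨hsq, hRb, hRmb, ?_, ?_, hRdef⟩
  · have := nonneg_of_mul_nonneg_right (nonneg_of_mul_nonneg_right hnn hqpos) hmpos
    linarith
  · intro heq i
    rw [heq, sub_self, mul_zero, mul_zero,
      Finset.sum_eq_zero_iff_of_nonneg fun i _ => sq_nonneg _] at hvar
    have := hvar i (Finset.mem_univ _)
    rwa [sq_eq_zero_iff, sub_eq_zero] at this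

variable (hrat : S.Rational)
include T hrat

/-- The square root of `R` is divisible by `q`. -/
lemma q_dvd (hodd : Odd Q.q) {R l : ℤ} (h : conv T.f T.f = fun x => R * delta x + l) :
    (Q.q : ℤ) ∣ R := by
  have := Fact.mk Q.prime
  have hs : Function.Surjective (Int.cast : ℤ → ZMod Q.q) := ZMod.intCast_surjective
  set F : DihedralGroup m → ZMod Q.q := fun x => (T.f x : ZMod Q.q)
  have hF : Inv S.E F := fun a b hab => by simp only [F, T.f_inv a b hab]
  have hFF : conv F F = fun x => (R : ZMod Q.q) * delta x + (l : ZMod Q.q) := by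
    funext x
    have := congrArg (Int.cast : ℤ → ZMod Q.q) (congrFun h x)
    simpa [conv, F, Int.cast_sum, Int.cast_mul, delta, apply_ite (Int.cast : ℤ → ZMod Q.q)]
      using this
  have hpow : ∀ j, ∃ γ, powc F (2 * j + 1) = fun x => (R : ZMod Q.q) ^ j * F x + γ := by
    intro j
    induction j with
    | zero =>
      refine ⟨0, ?_⟩
      funext x
      simp [powc, delta_conv]
    | succ j ih =>
      obtain ⟨γ, hγ⟩ := ih
      refine ⟨γ * R + (R : ZMod Q.q) ^ j * (l : ZMod Q.q) * ∑ y, F y +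
        γ * l * (Fintype.card (DihedralGroup m) : ZMod Q.q), ?_⟩
      have e : powc F (2 * (j + 1) + 1) = conv (powc F (2 * j + 1)) (conv F F) := by
        apply toMat_injective
        rw [toMat_powc, toMat_conv, toMat_powc, toMat_conv, ← mul_assoc, ← pow_succ, ← pow_succ]
        congr 1
      rw [e, hFF, hγ]
      funext x
      simp only [conv, delta, mul_add, add_mul, mul_ite, mul_one, mul_zero,
        Finset.sum_add_distrib, inv_mul_eq_one, Finset.sum_ite_eq', Finset.mem_univ, if_true,
        Finset.sum_const, Finset.card_univ, nsmul_eq_mul, ← Finset.sum_mul, ← Finset.mul_sum]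
      ring
  obtain ⟨k, hk⟩ := hodd
  obtain ⟨γ, hγ⟩ := hpow k
  rw [← hk] at hγ
  have hzero : ∀ n : ℕ, pA F ((n : ZMod m) * Q.c) = 0 := fun n => by
    show ((pA T.f ((n : ZMod m) * Q.c) : ℤ) : ZMod Q.q) = 0
    rw [T.A_mul_c, Int.cast_zero]
  have h1 : γ = 0 := by
    have := (pA_frob hm hrat Q ⟨k, hk⟩ hF 0).2 Q.W_zero
    have e0 := hzero 0
    have e1 := hzero 1
    rw [Nat.cast_zero, zero_mul] at e0
    rw [Nat.cast_one, one_mul] at e1
    rw [zero_add, e0, e1, sub_zero, hγ] at this
    simp only [pA] at this e0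
    rwa [e0, mul_zero, zero_add] at this
  obtain ⟨i, hi, hui⟩ := exists_high hm hrat Q ⟨k, hk⟩ (x := r T.u)
    (by rw [Ne, r_eq_one]; exact T.hu0)
  have h2 := (pA_frob hm hrat Q ⟨k, hk⟩ hF i).1 hi
  have hFi : F (r i) = 1 := by
    show ((T.f (r i) : ℤ) : ZMod Q.q) = 1
    rw [← T.f_inv _ _ hui]
    rw [show T.f (r T.u) = 1 from T.A_u, Int.cast_one]
  rw [hγ] at h2
  simp only [pA, hFi, h1, mul_one, add_zero] at h2
  exact (ZMod.intCast_zmod_eq_zero_iff_dvd R Q.q).mp (eq_zero_of_pow_eq_zero h2)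

/-- No class avoids the elements of prime order, for an odd prime. -/
lemma false_of_odd (hodd : Odd Q.q) : False := by
  obtain ⟨R, l, hR0, h⟩ := T.square hm
  obtain ⟨hsq, hRb, hRmb, hineq, -, -⟩ := T.numerics hm h
  have hdvd := T.q_dvd hm hrat hodd h
  set a := ∑ j, pA T.f j
  set b := ∑ j, pB T.f j
  set s := a - b with hs
  have hq3 : (3 : ℤ) ≤ Q.q := by
    have := Q.prime.two_le
    obtain ⟨k, hk⟩ := hodd
    omega
  have hs3 : 3 ≤ |s| := by
    have hp : Prime (Q.q : ℤ) := Nat.prime_iff_prime_int.mp Q.prime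
    have : (Q.q : ℤ) ∣ s := hp.dvd_of_dvd_pow (hsq ▸ hdvd)
    have hs0 : s ≠ 0 := fun h0 => hR0 (by rw [← hsq, h0]; ring)
    have := Int.le_of_dvd (abs_pos.mpr hs0) ((dvd_abs _ _).mpr this)
    linarith
  set w := |s|
  have hw : R = w ^ 2 := by rw [← hsq, sq_abs]
  have h1 : R - w ≤ a := by have := le_abs_self s; have := neg_abs_le s; linarith
  have h2 : R - w ≤ m - a := by have := le_abs_self s; have := neg_abs_le s; linarith
  have h3 : 0 ≤ R - w := by nlinarith
  have key : (R - w) * m ≤ 2 * (a * (m - a)) := by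
    rcases le_total a (m - a) with h' | h'
    · nlinarith [mul_le_mul h' le_rfl (by linarith : (0:ℤ) ≤ a) (by linarith : (0:ℤ) ≤ m - a)]
    · nlinarith
  have hmpos : (0 : ℤ) < m := by exact_mod_cast (show 0 < m by omega)
  have hRpos : 0 < R := by nlinarith
  have key2 : (Q.q : ℤ) * ((R - w) * m) < 2 * R * m := by nlinarith
  have key3 : (Q.q : ℤ) * (R - w) < 2 * R := by
    rw [← mul_assoc] at key2
    exact lt_of_mul_lt_mul_right key2 hmpos.le
  nlinarith

/-- No class avoids the involution, for a power of two. -/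
lemma false_of_two (hq : Q.q = 2) (hE : Q.E0 = 0) : False := by
  obtain ⟨R, l, hR0, h⟩ := T.square hm
  obtain ⟨hsq, hRb, hRmb, hineq, heqn, hRdef⟩ := T.numerics hm h
  simp only [hq, Nat.cast_ofNat] at hineq heqn
  set a := ∑ j, pA T.f j with ha
  set b := ∑ j, pB T.f j with hb
  have hc0 := Q.c_ne_zero
  have h2c : (2 : ZMod m) * Q.c = 0 := by
    have := Q.q_mul_c
    rwa [hq, Nat.cast_ofNat] at this
  have hA0 : pA T.f 0 = 0 := T.f_one
  have hAc : pA T.f Q.c = 0 := by simpa using T.A_mul_c 1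
  have hu0 : T.u ≠ T.u + Q.c := fun he => hc0 (by linear_combination -1 * he)
  have ha2 : 2 ≤ a := by
    have e1 : pA T.f T.u + pA T.f (T.u + Q.c) ≤ a := by
      rw [← Finset.sum_pair (f := pA T.f) hu0]
      exact Finset.sum_le_univ_sum_of_nonneg fun j => by
        rcases T.A_01 j with h0 | h0 <;> simp [h0]
    rw [T.A_add_c, T.A_u] at e1
    linarith
  have ham : a ≤ m - 2 := by
    have e1 : (1 - pA T.f 0) + (1 - pA T.f Q.c) ≤ ∑ j, (1 - pA T.f j) := by
      rw [← Finset.sum_pair (f := fun j => 1 - pA T.f j) hc0.symm]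
      exact Finset.sum_le_univ_sum_of_nonneg fun j => by
        rcases T.A_01 j with h0 | h0 <;> simp [h0]
    rw [hA0, hAc, Finset.sum_sub_distrib, Finset.sum_const, Finset.card_univ, ZMod.card,
      nsmul_eq_mul, mul_one] at e1
    linarith
  set s := a - b with hs
  set w := |s|
  have hw : R = w ^ 2 := by rw [← hsq, sq_abs]
  have h1 : R - w ≤ a := by have := le_abs_self s; have := neg_abs_le s; linarith
  have h2 : R - w ≤ m - a := by have := le_abs_self s; have := neg_abs_le s; linarith
  have hw0 : 0 ≤ w := abs_nonneg s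
  have hw1 : w ≠ 0 := fun h0 => hR0 (by rw [hw, h0]; ring)
  have hm4 : (4 : ℤ) ≤ m := by linarith
  have heq : 2 * a * (m - a) = ((m : ℤ) - 2) * R := by
    rcases (show w = 1 ∨ w = 2 ∨ 3 ≤ w by omega) with h' | h' | h'
    · rw [h'] at hw
      norm_num at hw
      nlinarith [mul_nonneg (sub_nonneg.mpr ha2) (sub_nonneg.mpr (by linarith : (2:ℤ) ≤ m - a))]
    · rw [h'] at hw
      norm_num at hw
      nlinarith [mul_nonneg (sub_nonneg.mpr ha2) (sub_nonneg.mpr (by linarith : (2:ℤ) ≤ m - a))]
    · have hprod := mul_nonneg (sub_nonneg.mpr h1) (sub_nonneg.mpr h2)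
      have hlow : (R - w) * (m - R + w) ≤ a * (m - a) := by nlinarith
      have hR3 : R - 2 * w > 0 := by nlinarith
      have hm2 : (m : ℤ) * (R - 2 * w) ≤ 2 * R * (R - 2 * w) := by nlinarith
      have hmle : (m : ℤ) ≤ 2 * R := le_of_mul_le_mul_right hm2 hR3
      have hmeq : (m : ℤ) = 2 * R := by linarith
      nlinarith
  have hn := heqn heq
  have hn' : ∀ i, (m : ℤ) * (pB T.f i + pB T.f (i - Q.c)) = 2 * b := by
    intro i
    have := hn i
    simp only [hq, Finset.sum_range_succ, Finset.sum_range_zero, Nat.cast_zero, zero_mul,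
      sub_zero, Nat.cast_one, one_mul, zero_add] at this
    exact this
  have hRpos : 0 < R := by rw [hw]; positivity
  have hone : ∀ i, pB T.f i + pB T.f (i - Q.c) = 1 := by
    intro i
    have := hn' i
    rcases T.B_01 i with g1 | g1 <;>
      rcases T.B_01 (i - Q.c) with g2 | g2 <;>
      simp only [g1, g2] at this ⊢ <;> linarith
  have hbR : R = b := by
    rw [hRdef]
    have : ∑ j, pB T.f j * pB T.f (j - Q.c) = 0 := Finset.sum_eq_zero fun j _ => by
      have := hone j
      rcases T.B_01 j with g1 | g1 <;>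
        rcases T.B_01 (j - Q.c) with g2 | g2 <;>
        simp only [g1, g2] at this ⊢ <;> omega
    linarith
  have hm2R : (m : ℤ) = 2 * R := by
    have := hn' 0
    rw [hone] at this
    linarith
  -- the element of order four
  have h4 : 4 ∣ m := by
    obtain ⟨e', hme⟩ : ∃ e', m = 2 ^ e' := by
      obtain ⟨e', m', hm', hme⟩ :=
        Nat.exists_eq_pow_mul_and_not_dvd (NeZero.ne m) 2 (by norm_num)
      have hk := Q.kill
      rw [hE, sub_zero, mul_one, hq, Nat.cast_ofNat, ← Nat.cast_ofNat (R := ZMod m),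
        ← Nat.cast_pow, ZMod.natCast_eq_zero_iff] at hk
      have hm'1 : m' ∣ 2 ^ Q.e := (Dvd.intro_left _ hme.symm).trans hk
      obtain ⟨i, -, hi⟩ := (Nat.dvd_prime_pow Nat.prime_two).mp hm'1
      rcases Nat.eq_zero_or_pos i with rfl | hi0
      · exact ⟨e', by rw [hme, hi, pow_zero, mul_one]⟩
      · exact absurd (hi ▸ dvd_pow_self 2 hi0.ne') hm'
    have : 2 ≤ e' := by
      by_contra hlt
      have : m ≤ 2 := by rw [hme]; calc 2 ^ e' ≤ 2 ^ 1 := Nat.pow_le_pow_right (by norm_num) (by omega)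
                                    _ = 2 := rfl
      omega
    rw [hme]
    exact (pow_dvd_pow 2 this)
  set hh : ZMod m := ((m / 4 : ℕ) : ZMod m) with hhh
  have h2h : (2 : ZMod m) * hh = Q.c := by
    rw [QData.c, hq, hhh, ← Nat.cast_ofNat (R := ZMod m), ← Nat.cast_mul]
    congr 1
    omega
  have hh0 : hh ≠ 0 := fun h0 => hc0 (by rw [← h2h, h0, mul_zero])
  have hhc : hh + Q.c ≠ 0 := fun h0 => hc0 (by linear_combination 2 * h0 - h2h - h2c)
  have hU : ∀ i, (R * (if i = 0 then 1 else 0) + l : ℤ) =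
      ∑ j, pA T.f j * pA T.f (i - j) + ∑ j, pB T.f j * pB T.f (j - i) := by
    intro i
    rw [← conv_r, h]
    simp [delta, r_eq_one]
  have hpair : ∀ i, ∑ j, pB T.f j * pB T.f (j - i) + ∑ j, pB T.f j * pB T.f (j - (i + Q.c)) =
      b := by
    intro i
    rw [← Finset.sum_add_distrib]
    refine Finset.sum_congr rfl fun j _ => ?_
    rw [← mul_add, show j - (i + Q.c) = j - i - Q.c by ring, hone, mul_one]
  have hApair : ∀ i, ∑ j, pA T.f j * pA T.f (i + Q.c - j) = ∑ j, pA T.f j * pA T.f (i - j) :=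
    fun i => Finset.sum_congr rfl fun j _ => by
      rw [show i + Q.c - j = i - j + Q.c by ring, T.A_add_c]
  have hAA : ∑ j, pA T.f j * pA T.f (0 - j) = a := Finset.sum_congr rfl fun j _ => by
    rw [zero_sub, T.A_neg hm]
    rcases T.A_01 j with h0 | h0 <;> simp [h0]
  have hR2 : R = 2 * (a - ∑ j, pA T.f j * pA T.f (hh - j)) := by
    have e1 := hU 0
    have e2 := hU (0 + Q.c)
    have e3 := hU hh
    have e4 := hU (hh + Q.c)
    rw [hApair, hAA] at e2
    rw [hAA] at e1
    rw [hApair] at e4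
    simp only [zero_add, hc0, hh0, hhc, if_true, if_false, mul_one, mul_zero] at e1 e2 e3 e4
    have := hpair 0
    have := hpair hh
    simp only [zero_add] at *
    linarith
  have hAhh : ∀ j, (4 : ZMod m) * j ≠ 0 → pA T.f (hh - j) = pA T.f j := by
    intro j hj
    have hnW : ¬ Q.W ((Q.q : ZMod m) * (2 * j)) := by
      rw [QData.W, hE, zero_mul, hq, Nat.cast_ofNat]
      intro h0
      apply hj
      linear_combination -1 * h0
    obtain ⟨k, hk⟩ := Q.exists_unit_add_c hnW
    obtain ⟨n, hn, hn'⟩ := Q.exists_eq_mul_c (z := ((k : ZMod m) - 1) * j - hh)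
      (by rw [hq, Nat.cast_ofNat]; linear_combination hk - h2h)
    have hkj := T.f_inv _ _ (hrat k j)
    rw [show (k : ZMod m) * j = j + hh + (n : ZMod m) * Q.c by linear_combination hn'] at hkj
    have e : pA T.f (j + hh) = pA T.f j := by
      rw [← T.A_add_mul_c (j + hh) n]
      exact hkj.symm
    rw [← T.A_neg hm, show -(hh - j) = j + hh - Q.c by linear_combination -1 * h2h,
      T.A_sub_c, e]
  have hR4 : R ≤ 4 := by
    have hle : ∑ j, (pA T.f j - pA T.f j * pA T.f (hh - j)) ≤ pA T.f hh + pA T.f (hh + Q.c) := by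
      have hne : hh ≠ hh + Q.c := fun he => hc0 (by linear_combination -1 * he)
      calc _ ≤ ∑ j, if j ∈ ({hh, hh + Q.c} : Finset (ZMod m)) then pA T.f j else 0 := by
            refine Finset.sum_le_sum fun j _ => ?_
            by_cases hj : (4 : ZMod m) * j = 0
            · split_ifs with hmem
              · rcases T.A_01 j with g1 | g1 <;>
                  rcases T.A_01 (hh - j) with g2 | g2 <;> simp [g1, g2]
              · have hz : pA T.f j = 0 := by
                  obtain ⟨n, hn, h2j⟩ := Q.exists_eq_mul_c (z := 2 * j)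
                    (by rw [hq, Nat.cast_ofNat]; linear_combination hj)
                  rw [hq] at hn
                  interval_cases n
                  · obtain ⟨k, -, rfl⟩ := Q.exists_eq_mul_c (z := j)
                      (by rw [hq, Nat.cast_ofNat]; simpa using h2j)
                    exact T.A_mul_c k
                  · exfalso
                    obtain ⟨k, hk, hjk⟩ := Q.exists_eq_mul_c (z := j - hh)
                      (by rw [hq, Nat.cast_ofNat]; linear_combination h2j - h2h)
                    rw [hq] at hk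
                    apply hmem
                    simp only [Finset.mem_insert, Finset.mem_singleton]
                    interval_cases k
                    · left; linear_combination hjk
                    · right; linear_combination hjk
                simp [hz]
            · rw [hAhh j hj]
              split_ifs <;> rcases T.A_01 j with g1 | g1 <;> simp [g1]
        _ = _ := by rw [Finset.sum_ite_mem, Finset.univ_inter, Finset.sum_pair hne]
    rw [Finset.sum_sub_distrib, ← ha] at hle
    rcases T.A_01 hh with g1 | g1 <;>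
      rcases T.A_01 (hh + Q.c) with g2 | g2 <;>
      simp only [g1, g2] at hle hR2 <;> linarith
  have hm8 : m = 8 := by
    rcases (show w = 1 ∨ w = 2 ∨ 3 ≤ w by omega) with h' | h' | h'
    · rw [h'] at hw
      norm_num at hw
      exfalso
      omega
    · rw [h'] at hw
      norm_num at hw
      omega
    · nlinarith
  subst hm8
  have hc4 : Q.c = 4 := by rw [QData.c, hq]; rfl
  have e1 := hU 1
  have e5 := hU (1 + Q.c)
  rw [hApair] at e5
  rw [hc4] at e5
  have n1 : (1 : ZMod 8) ≠ 0 := by decide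
  have n5 : (1 + 4 : ZMod 8) ≠ 0 := by decide
  simp only [n1, n5, if_false, mul_zero] at e1 e5
  let B : ZMod 8 → Bool := fun i => decide (pB T.f i = 1)
  have hB : ∀ i : ZMod 8, pB T.f i = if B i then 1 else 0 := fun i => by
    rcases T.B_01 i with g | g <;> simp [B, g]
  apply eight_case B
  · intro x
    have hx := hone ((x : ZMod 8) + 4)
    rw [hc4, add_sub_cancel_right, hB, hB] at hx
    revert hx
    rcases B (x + 4) <;> rcases B x <;> simp
  · have e := e1.symm.trans e5
    simp only [hB, add_left_cancel_iff] at e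
    zify
    convert e using 1 <;>
    · refine Finset.sum_congr rfl fun j _ => ?_
      rcases hb1 : B j <;> simp
      all_goals rfl

end Avoid

/-- A primitive rational Schur ring over a dihedral group has only one nontrivial class. -/
theorem rational_trivial (hm : 2 ≤ m) (hrat : S.Rational) {x y : DihedralGroup m}
    (hx : x ≠ 1) (hy : y ≠ 1) : S.E x y := by
  obtain ⟨Q, hQ⟩ : ∃ Q : QData m, Odd Q.q ∨ (Q.q = 2 ∧ Q.E0 = 0) := by
    by_cases hex : ∃ p, p.Prime ∧ Odd p ∧ p ∣ m
    · obtain ⟨p, hp, hpodd, hpd⟩ := hex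
      obtain ⟨Q, rfl⟩ := exists_qData hp hpd
      exact ⟨Q, Or.inl hpodd⟩
    · push Not at hex
      have hmin := Nat.minFac_prime (by omega : m ≠ 1)
      have h2 : m.minFac = 2 := by
        by_contra hne
        exact hex _ hmin (hmin.odd_of_ne_two hne) (Nat.minFac_dvd m)
      obtain ⟨Q, hQq⟩ := exists_qData (m := m) Nat.prime_two (h2 ▸ Nat.minFac_dvd m)
      refine ⟨Q, Or.inr ⟨hQq, ?_⟩⟩
      have hme : m = 2 ^ m.primeFactorsList.length := Nat.eq_prime_pow_of_unique_prime_dvd
        (by omega) (fun {d} hd hdm => by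
          by_contra hne
          exact hex d hd (hd.odd_of_ne_two hne) hdm)
      have hd := Q.c_kill
      rw [← ZMod.natCast_zmod_val Q.E0, ← Nat.cast_mul, ZMod.natCast_eq_zero_iff] at hd
      conv at hd => arg 1; rw [← Nat.mul_div_cancel' Q.dvd]
      have hpos : 0 < m / Q.q := Nat.div_pos (Nat.le_of_dvd (by omega) Q.dvd) Q.prime.pos
      obtain ⟨u, hu⟩ := Nat.dvd_of_mul_dvd_mul_right hpos hd
      have hnil : IsNilpotent Q.E0 := by
        refine ⟨m.primeFactorsList.length, ?_⟩
        rw [← ZMod.natCast_zmod_val Q.E0, hu, hQq, ← Nat.cast_pow, mul_pow, Nat.cast_mul, ← hme,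
          ZMod.natCast_self, zero_mul]
      obtain ⟨n, hn⟩ := hnil
      have : ∀ k, Q.E0 ^ (k + 1) = Q.E0 := fun k => by
        induction k with
        | zero => simp
        | succ k ih => rw [pow_succ, ih, Q.idem]
      rw [← this n, pow_succ, hn, zero_mul]
  suffices hall : ∀ i, i ≠ 0 → S.E (r i) (r Q.c) by
    obtain ⟨i, hi⟩ := S.exists_rot hm x
    obtain ⟨j, hj⟩ := S.exists_rot hm y
    have hi0 : i ≠ 0 := by
      rintro rfl
      exact hx (S.one_class x (S.equiv.symm hi))
    have hj0 : j ≠ 0 := by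
      rintro rfl
      exact hy (S.one_class y (S.equiv.symm hj))
    exact S.equiv.trans hi (S.equiv.trans (hall i hi0)
      (S.equiv.trans (S.equiv.symm (hall j hj0)) (S.equiv.symm hj)))
  intro i hi
  by_contra hne
  have hcmul : ∀ n : ℕ, ¬ Q.q ∣ n → S.E (r Q.c) (r ((n : ZMod m) * Q.c)) := fun n hn => by
    simpa using rel_c_mul hrat Q hn Q.W_zero
  rcases hQ with hodd | ⟨h2, hE⟩
  · exact Avoid.false_of_odd ⟨i, hne, hi, fun j hj => rel_add_c hm hrat Q hodd hj, hcmul⟩
      hm hrat hodd
  · refine Avoid.false_of_two ⟨i, hne, hi, fun j hj => ?_, hcmul⟩ hm hrat h2 hE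
    obtain ⟨k, hk⟩ := Q.exists_unit_add_c (x := j) (by
      rw [QData.W, hE, zero_mul]
      exact fun h0 => hj h0.symm)
    have := hrat k j
    rwa [hk] at this

end SRing

end Cfsg.Agent.DihedralB
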