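import Mathlib
import Cfsg.Agent.DihedralB.Rational

/-!
# A primitive Schur ring over a dihedral group is trivial
-/

set_option autoImplicit false
set_option maxHeartbeats 1000000

namespace Cfsg.Agent.DihedralB

open DihedralGroup

variable {m : ℕ} [NeZero m]

namespace SRing

variable (S : SRing m) (hm : 2 ≤ m)
include hm

open Classical in
lemma card_rot_mul (k : (ZMod m)ˣ) (i : ZMod m) :
    (Finset.univ.filter fun j => S.E (r i) (r j)).card =
      (Finset.univ.filter fun j => S.E (r ((k : ZMod m) * i)) (r j)).card := by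
  refine Finset.card_bij' (fun j _ => (k : ZMod m) * j)
    (fun j _ => ((k⁻¹ : (ZMod m)ˣ) : ZMod m) * j) ?_ ?_ ?_ ?_
  · intro j hj
    simp only [Finset.mem_filter, Finset.mem_univ, true_and] at hj ⊢
    exact S.rel_mul hm k hj
  · intro j hj
    simp only [Finset.mem_filter, Finset.mem_univ, true_and] at hj ⊢
    have := S.rel_mul hm k⁻¹ hj
    simpa [← mul_assoc] using this
  · intro j _
    simp [← mul_assoc]
  · intro j _
    simp [← mul_assoc]

open Classical in
lemma card_refl_mul (k : (ZMod m)ˣ) (i : ZMod m) :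
    (Finset.univ.filter fun j => S.E (r i) (sr j)).card =
      (Finset.univ.filter fun j => S.E (r ((k : ZMod m) * i)) (sr j)).card := by
  have key : ∀ x : DihedralGroup m, (Finset.univ.filter fun y => S.E x y).card =
      (Finset.univ.filter fun j => S.E x (r j)).card +
        (Finset.univ.filter fun j => S.E x (sr j)).card := by
    intro x
    simp only [Finset.card_filter]
    rw [sum_dihedral]
    congr 1
    exact Equiv.sum_comp (Equiv.neg (ZMod m)) (fun j => if S.E x (sr j) then 1 else 0)
  have h1 := S.card_class_mul hm k i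
  rw [key, key] at h1
  have h2 := S.card_rot_mul hm k i
  omega

/-- A primitive Schur ring over a dihedral group has only one nontrivial class. -/
theorem trivial_classes {x y : DihedralGroup m} (hx : x ≠ 1) (hy : y ≠ 1) : S.E x y := by
  classical
  obtain ⟨Q, hQ⟩ := exists_qData (m := m) (Nat.minFac_prime (by omega : m ≠ 1)) (Nat.minFac_dvd m)
  have hq := Fact.mk Q.prime
  -- every class contains a multiple of `c`
  have hmeet : ∀ z : DihedralGroup m, z ≠ 1 → ∃ k : (ZMod m)ˣ, S.E z (r ((k : ZMod m) * Q.c)) := by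
    intro z hz
    let F : DihedralGroup m → ℤ := fun z =>
      if ∃ k : (ZMod m)ˣ, S.E z (r ((k : ZMod m) * Q.c)) then 1 else 0
    have hF : Inv S.E F := by
      intro a b hab
      have : (∃ k : (ZMod m)ˣ, S.E a (r ((k : ZMod m) * Q.c))) ↔
          ∃ k : (ZMod m)ˣ, S.E b (r ((k : ZMod m) * Q.c)) :=
        ⟨fun ⟨k, h⟩ => ⟨k, S.equiv.trans (S.equiv.symm hab) h⟩,
          fun ⟨k, h⟩ => ⟨k, S.equiv.trans hab h⟩⟩
      simp only [F, this]
    have hFk : ∀ (k : (ZMod m)ˣ) i, F (r ((k : ZMod m) * i)) = F (r i) := by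
      intro k i
      have : (∃ l : (ZMod m)ˣ, S.E (r ((k : ZMod m) * i)) (r ((l : ZMod m) * Q.c))) ↔
          ∃ l : (ZMod m)ˣ, S.E (r i) (r ((l : ZMod m) * Q.c)) := by
        constructor
        · rintro ⟨l, h⟩
          refine ⟨k⁻¹ * l, ?_⟩
          have := S.rel_mul hm k⁻¹ h
          simpa [← mul_assoc] using this
        · rintro ⟨l, h⟩
          refine ⟨k * l, ?_⟩
          have := S.rel_mul hm k h
          simpa [mul_assoc] using this
      simp only [F, this]
    have hzc := rational_trivial (S := S.rat hm) hm (S.rat_rel_mul hm) hz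
      (show (r Q.c : DihedralGroup m) ≠ 1 by rw [Ne, r_eq_one]; exact Q.c_ne_zero)
    have := hzc F hF hFk
    have h1 : F (r Q.c) = 1 := if_pos ⟨1, by simpa using S.equiv.refl _⟩
    rw [h1] at this
    by_contra hne
    simp [F, hne] at this
  -- the stabiliser of the class of `c`
  let St : Subgroup (ZMod m)ˣ :=
    { carrier := {k | S.E (r ((k : ZMod m) * Q.c)) (r Q.c)}
      one_mem' := by simpa using S.equiv.refl _
      mul_mem' := by
        intro a b ha hb
        have := S.equiv.trans (S.rel_mul hm a hb) ha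
        simpa [mul_assoc] using this
      inv_mem' := by
        intro a ha
        have := S.equiv.symm (S.rel_mul hm a⁻¹ ha)
        simpa [← mul_assoc] using this }
  have hcos : ∀ a b : (ZMod m)ˣ,
      S.E (r ((a : ZMod m) * Q.c)) (r ((b : ZMod m) * Q.c)) ↔ a⁻¹ * b ∈ St := by
    intro a b
    constructor
    · intro h
      have := S.equiv.symm (S.rel_mul hm a⁻¹ h)
      show S.E (r (((a⁻¹ * b : (ZMod m)ˣ) : ZMod m) * Q.c)) (r Q.c)
      simpa [← mul_assoc] using this
    · intro h
      have := S.equiv.symm (S.rel_mul hm a h)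
      simpa [← mul_assoc] using this
  -- its index is coprime to `m`
  have hdvd : St.index ∣ Q.q - 1 := by
    have hker : (ZMod.unitsMap Q.dvd).ker ≤ St := by
      intro k hk
      rw [MonoidHom.mem_ker] at hk
      have hk' : ZMod.castHom Q.dvd (ZMod Q.q) ((k : ZMod m) - 1) = 0 := by
        have := congrArg (fun u : (ZMod Q.q)ˣ => (u : ZMod Q.q)) hk
        rw [map_sub, map_one, sub_eq_zero]
        simpa [ZMod.unitsMap] using this
      rw [← ZMod.natCast_zmod_val ((k : ZMod m) - 1), map_natCast, ZMod.natCast_eq_zero_iff]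
        at hk'
      have h0 := (Q.natCast_mul_c _).mpr hk'
      rw [ZMod.natCast_zmod_val, sub_mul, one_mul, sub_eq_zero] at h0
      show S.E (r ((k : ZMod m) * Q.c)) (r Q.c)
      rw [h0]
      exact S.equiv.refl _
    refine (Subgroup.index_dvd_of_le hker).trans ?_
    rw [Subgroup.index_ker, MonoidHom.range_eq_top.mpr (ZMod.unitsMap_surjective Q.dvd),
      Subgroup.card_top, Nat.card_eq_fintype_card, ZMod.card_units]
  -- counting the reflections
  let g : ZMod m → (ZMod m)ˣ ⧸ St := fun j =>
    QuotientGroup.mk (Classical.choose (hmeet (sr j) (SRing.sr_ne_one j)))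
  have hfib : ∀ (k : (ZMod m)ˣ) j,
      g j = QuotientGroup.mk k ↔ S.E (r ((k : ZMod m) * Q.c)) (sr j) := by
    intro k j
    have hs := Classical.choose_spec (hmeet (sr j) (SRing.sr_ne_one j))
    rw [QuotientGroup.eq, ← hcos]
    exact ⟨fun h => S.equiv.trans (S.equiv.symm h) (S.equiv.symm hs),
      fun h => S.equiv.symm (S.equiv.trans h hs)⟩
  have hcount : St.index * (Finset.univ.filter fun j => S.E (r Q.c) (sr j)).card = m := by
    have hfibre := Finset.card_eq_sum_card_fiberwise (s := (Finset.univ : Finset (ZMod m)))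
      (t := (Finset.univ : Finset ((ZMod m)ˣ ⧸ St))) (f := g) (fun j _ => Finset.mem_univ _)
    have hone : ∀ t : (ZMod m)ˣ ⧸ St, (Finset.univ.filter fun j => g j = t).card =
        (Finset.univ.filter fun j => S.E (r Q.c) (sr j)).card := by
      intro t
      obtain ⟨k, rfl⟩ := QuotientGroup.mk_surjective t
      rw [S.card_refl_mul hm k Q.c]
      congr 1
      ext j
      simp [hfib]
    rw [Finset.sum_congr rfl fun t _ => hone t, Finset.sum_const, Finset.card_univ,
      Finset.card_univ, ZMod.card, smul_eq_mul, ← Nat.card_eq_fintype_card] at hfibre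
    exact hfibre.symm
  have hindex : St.index = 1 := by
    by_contra hne
    obtain ⟨p, hp, hpd⟩ := Nat.exists_prime_and_dvd hne
    have h1 : p ≤ Q.q - 1 := Nat.le_of_dvd (by have := Q.prime.two_le; omega) (hpd.trans hdvd)
    have h2 : m.minFac ≤ p := Nat.minFac_le_of_dvd hp.two_le (hpd.trans ⟨_, hcount.symm⟩)
    rw [← hQ] at h2
    have := Q.prime.two_le
    omega
  obtain ⟨a, ha⟩ := hmeet x hx
  obtain ⟨b, hb⟩ := hmeet y hy
  refine S.equiv.trans ha (S.equiv.trans ((hcos a b).mpr ?_) (S.equiv.symm hb))
  rw [Subgroup.index_eq_one.mp hindex]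
  exact Subgroup.mem_top _

end SRing

end Cfsg.Agent.DihedralB
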