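import Mathlib
import Cfsg.Agent.DihedralB.Trivial

/-!
# Primitive groups with a regular dihedral subgroup
-/

set_option autoImplicit false
set_option maxHeartbeats 1000000

namespace Cfsg.Agent.DihedralB

open DihedralGroup MulAction

variable {G Ω : Type*} [Group G] [MulAction G Ω]

theorem two_pretransitive_of_regular {m : ℕ} [NeZero m] (hm : 2 ≤ m)
    (hprim : IsPreprimitive G Ω) (ι : DihedralGroup m →* G) (a : Ω)
    (hbij : Function.Bijective fun x => ι x • a) : IsMultiplyPretransitive G Ω 2 := by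
  obtain ⟨φ, hφ⟩ : ∃ φ : DihedralGroup m ≃ Ω, ∀ x, φ x = ι x • a :=
    ⟨Equiv.ofBijective _ hbij, fun _ => rfl⟩
  have hsmul : ∀ d x, ι d • φ x = φ (d * x) := fun d x => by rw [hφ, hφ, map_mul, mul_smul]
  let E : DihedralGroup m → DihedralGroup m → Prop := fun x y =>
    ∃ h : G, h • a = a ∧ h • φ x = φ y
  have hφ1 : φ 1 = a := by rw [hφ, map_one, one_smul]
  -- the relation is invariant under the group
  have key : ∀ (g : G) (u v : DihedralGroup m),
      E (u⁻¹ * v) ((φ.symm (g • φ u))⁻¹ * φ.symm (g • φ v)) := by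
    intro g u v
    set u' := φ.symm (g • φ u) with hu'
    refine ⟨ι u'⁻¹ * g * ι u, ?_, ?_⟩
    · rw [← hφ1, mul_smul, mul_smul, hsmul u 1, mul_one,
        show g • φ u = φ u' from (φ.apply_symm_apply _).symm, hsmul, inv_mul_cancel]
    · rw [mul_smul, mul_smul, hsmul, mul_inv_cancel_left,
        show g • φ v = φ (φ.symm (g • φ v)) from (φ.apply_symm_apply _).symm, hsmul]
      simp
  have hfix : ∀ {h : G}, h • a = a → φ.symm (h • φ 1) = 1 := by
    intro h hh
    rw [hφ1, hh, ← hφ1, φ.symm_apply_apply]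
  let S : SRing m :=
    { E := E
      equiv :=
        { refl := fun x => ⟨1, one_smul _ _, one_smul _ _⟩
          symm := fun {x y} ⟨h, h1, h2⟩ =>
            ⟨h⁻¹, by rw [inv_smul_eq_iff, h1], by rw [inv_smul_eq_iff, h2]⟩
          trans := fun {x y z} ⟨h, h1, h2⟩ ⟨h', h1', h2'⟩ =>
            ⟨h' * h, by rw [mul_smul, h1, h1'], by rw [mul_smul, h2, h2']⟩ }
      one_class := by
        rintro x ⟨h, h1, h2⟩
        rw [hφ1, h1, ← hφ1] at h2
        exact (φ.injective h2).symm
      inv_rel := by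
        rintro x y ⟨h, h1, h2⟩
        have := key h x 1
        rw [mul_one, hfix h1, mul_one, h2, φ.symm_apply_apply] at this
        exact this
      conv_inv := by
        rintro f f' hf hf' x y ⟨h, h1, h2⟩
        simp only [conv]
        refine Fintype.sum_equiv (φ.trans ((MulAction.toPerm h).trans φ.symm)) _ _ fun u => ?_
        simp only [Equiv.trans_apply, MulAction.toPerm_apply]
        have e1 : f u = f (φ.symm (h • φ u)) := by
          apply hf
          have := key h 1 u
          rwa [inv_one, one_mul, hfix h1, inv_one, one_mul] at this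
        have e2 : f' (u⁻¹ * x) = f' ((φ.symm (h • φ u))⁻¹ * y) := by
          apply hf'
          have := key h u x
          rwa [h2, φ.symm_apply_apply] at this
        rw [e1, e2]
      prim := by
        intro K hK
        have hblock : IsBlock G (φ '' (K : Set (DihedralGroup m))) := by
          rw [isBlock_iff_smul_eq_of_nonempty]
          intro g hne
          obtain ⟨_, ⟨_, ⟨k₁, hk₁, rfl⟩, rfl⟩, ⟨k₂, hk₂, he⟩⟩ := hne
          apply Set.Subset.antisymm
          · rintro _ ⟨_, ⟨k, hk, rfl⟩, rfl⟩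
            have h1 := hK _ _ (key g k₁ k) (K.mul_mem (K.inv_mem hk₁) hk)
            rw [show φ.symm (g • φ k₁) = k₂ by rw [← φ.symm_apply_apply k₂, he]] at h1
            exact ⟨φ.symm (g • φ k), by simpa using K.mul_mem hk₂ h1, φ.apply_symm_apply _⟩
          · rintro _ ⟨k, hk, rfl⟩
            refine ⟨g⁻¹ • φ k, ?_, smul_inv_smul _ _⟩
            have h1 := hK _ _ (key g⁻¹ k₂ k) (K.mul_mem (K.inv_mem hk₂) hk)
            rw [show φ.symm (g⁻¹ • φ k₂) = k₁ by
              rw [he, inv_smul_smul, φ.symm_apply_apply]] at h1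
            exact ⟨φ.symm (g⁻¹ • φ k), by simpa using K.mul_mem hk₁ h1, φ.apply_symm_apply _⟩
        rcases hprim.isTrivialBlock_of_isBlock hblock with h | h
        · left
          rw [Subgroup.eq_bot_iff_forall]
          intro k hk
          exact φ.injective (h ⟨k, hk, rfl⟩ ⟨1, K.one_mem, rfl⟩)
        · right
          rw [Subgroup.eq_top_iff']
          intro k
          obtain ⟨k', hk', he⟩ := (h ▸ Set.mem_univ (φ k) : φ k ∈ φ '' (K : Set (DihedralGroup m)))
          rwa [← φ.injective he] }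
  have hnorm : ∀ u v : Ω, u ≠ v → ∀ w, w ≠ a → ∃ g : G, g • u = a ∧ g • v = w := by
    intro u v huv w hw
    obtain ⟨x, rfl⟩ := φ.surjective u
    obtain ⟨y, rfl⟩ := φ.surjective v
    obtain ⟨z, rfl⟩ := φ.surjective w
    have hz : z ≠ 1 := fun h => hw (by rw [h, hφ1])
    have hy : x⁻¹ * y ≠ 1 := fun h => huv (by rw [inv_mul_eq_one] at h; rw [h])
    obtain ⟨h, h1, h2⟩ := S.trivial_classes hm hy hz
    refine ⟨h * ι x⁻¹, ?_, ?_⟩
    · rw [mul_smul, hsmul, inv_mul_cancel, hφ1, h1]
    · rw [mul_smul, hsmul, h2]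
  rw [is_two_pretransitive_iff]
  intro u v u' v' huv huv'
  obtain ⟨w, hw⟩ : ∃ w, w ≠ a := by
    by_cases hu : u = a
    · exact ⟨v, fun h => huv (hu.trans h.symm)⟩
    · exact ⟨u, hu⟩
  obtain ⟨g1, h1, h2⟩ := hnorm u v huv w hw
  obtain ⟨g2, h3, h4⟩ := hnorm u' v' huv' w hw
  exact ⟨g2⁻¹ * g1, by rw [mul_smul, h1, inv_smul_eq_iff, h3],
    by rw [mul_smul, h2, inv_smul_eq_iff, h4]⟩

end Cfsg.Agent.DihedralB
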